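import Cfsg.Agent.Lib.Chev.Structure
import Cfsg.Agent.Lib.ChevField.Bruhat
import Cfsg.Agent.Lib.Chev.RadicalCentralizer
import Mathlib.GroupTheory.Sylow

/-!
`U` is a Sylow subgroup of the Chevalley group, `B` is its normaliser, and the conjugates of `U`
meeting `U` trivially are conjugate to the opposite group under `U`.
-/

set_option autoImplicit false
set_option linter.unusedSectionVars false

namespace CfsgLib.ChevAut

open Cfsg.Lie CfsgLib.Chev
open scoped Matrix

variable {D : ChevalleyDatum} {T : Tabs} {F : Type*} [Field F]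

/-- the subgroup `U` -/
abbrev Up (D : ChevalleyDatum) (F : Type*) [Field F] : Subgroup (GL D.Idx F) :=
  uGen D F (fun r => D.nroots / 2 ≤ r)

/-- the opposite subgroup -/
abbrev Um (D : ChevalleyDatum) (F : Type*) [Field F] : Subgroup (GL D.Idx F) :=
  uGen D F (fun r => r < D.nroots / 2)

section
variable (hc : Checked D T)
include hc

theorem mem_pos_of_flipped {L : List (Fin D.rank)}
    (hL : ∀ r, r < D.nroots → D.nroots / 2 ≤ r → sigs D T L r < D.nroots / 2) {g : GL D.Idx F}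
    (hg : g ∈ Um D F) : (nProd D F L)⁻¹ * g * nProd D F L ∈ Up D F := by
  induction hg using Subgroup.closure_induction with
  | mem x hx =>
      obtain ⟨s, t, hs, hneg, rfl⟩ := hx
      set r := sigs D T L.reverse s
      have hr := sigs_lt hc L.reverse hs
      have hsr : sigs D T L r = s := by
        have := sigs_reverse hc L.reverse hs
        rwa [List.reverse_reverse] at this
      have hp : D.nroots / 2 ≤ r := by
        by_contra hh
        have hnr := neg_lt hc hr
        have h1 := hL (D.neg r) hnr (by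
          have e : D.neg r = _ := neg_eq hc (a := r) hr
          have := nroots_eq_two_mul hc; omega)
        rw [sigs_neg hc L hr, hsr, neg_eq hc hs] at h1
        have := nroots_eq_two_mul hc; omega
      obtain ⟨c, -, hcx⟩ := nProd_conj_elX hc (F := F) L hr
      have h := hcx ((c : F)⁻¹ * t)
      rw [hsr, mul_inv_cancel_left₀ c.ne_zero] at h
      rw [← h]
      simpa [mul_assoc] using elX_mem_uGen hr (P := fun r => D.nroots / 2 ≤ r) hp ((c : F)⁻¹ * t)
  | one => simp
  | mul x y _ _ hx hy =>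
      rw [show ∀ n a b : GL D.Idx F, n⁻¹ * (a * b) * n = (n⁻¹ * a * n) * (n⁻¹ * b * n) from fun n a b => by group]
      exact mul_mem hx hy
  | inv x _ hx =>
      rw [show ∀ n a : GL D.Idx F, n⁻¹ * a⁻¹ * n = (n⁻¹ * a * n)⁻¹ from fun n a => by group]
      exact inv_mem hx

theorem conj_flipped_mem {L : List (Fin D.rank)}
    (hL : ∀ r, r < D.nroots → D.nroots / 2 ≤ r → sigs D T L r < D.nroots / 2) {g : GL D.Idx F}
    (hg : g ∈ Up D F) : nProd D F L * g * (nProd D F L)⁻¹ ∈ Um D F :=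
  ChevField.nProd_conj_uGen hc L hL hg

theorem pos_inf_neg {g : GL D.Idx F} (h : g ∈ Up D F) (h' : g ∈ Um D F) : g = 1 :=
  borel_inf_neg hc (pos_le_borel hc h) h'

theorem up_le_group : Up D F ≤ D.group F := pos_le_group hc

theorem um_le_group : Um D F ≤ D.group F :=
  uGen_le_iff.2 fun _ hr _ t => elX_mem_group hc hr t

theorem diagonal_card_coprime [Finite F] (p : ℕ) [Fact p.Prime] [CharP F p] :
    ¬ p ∣ Nat.card (D.diagonalSubgroup F) := by
  intro h
  have : Fintype F := Fintype.ofFinite F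
  have hdvd : Nat.card (D.diagonalSubgroup F) ∣ (Nat.card F - 1) ^ D.rank := by
    rw [diagonalSubgroup_eq hc, ← Nat.card_units]
    refine (Subgroup.card_range_dvd _).trans ?_
    rw [Nat.card_fun, Nat.card_fin]
  have hp := (Fact.out : p.Prime)
  have h1 : p ∣ Nat.card F - 1 := hp.dvd_of_dvd_pow (h.trans hdvd)
  obtain ⟨n, -, hn⟩ := FiniteField.card F p
  have h2 : p ∣ Nat.card F := by
    rw [Nat.card_eq_fintype_card, hn]
    exact dvd_pow_self p n.pos.ne'
  have h3 := Nat.dvd_sub h2 h1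
  rw [Nat.sub_sub_self (Nat.one_le_iff_ne_zero.2 Nat.card_pos.ne')] at h3
  exact hp.one_lt.ne' (Nat.dvd_one.1 h3)

theorem card_borel [Finite F] :
    Nat.card (D.borelSubgroup F) = Nat.card (Up D F) * Nat.card (D.diagonalSubgroup F) := by
  rw [← Nat.card_prod]
  refine (Nat.card_congr (Equiv.ofBijective (fun p => (⟨p.1.1 * p.2.1,
    mul_mem (pos_le_borel hc p.1.2) (diagonal_le_borel hc p.2.2)⟩ : D.borelSubgroup F)) ⟨?_, ?_⟩)).symm
  · rintro ⟨⟨u, hu⟩, ⟨h, hh⟩⟩ ⟨⟨v, hv⟩, ⟨k, hk⟩⟩ e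
    have e' : u * h = v * k := congrArg Subtype.val e
    have h1 : v⁻¹ * u = k * h⁻¹ := by
      rw [show v⁻¹ * u = v⁻¹ * (u * h) * h⁻¹ by group, e']; group
    obtain rfl : v = u := inv_mul_eq_one.1
      (pos_inf_diag hc (mul_mem (inv_mem hv) hu) (h1 ▸ mul_mem hk (inv_mem hh)))
    obtain rfl : h = k := mul_left_cancel e'
    rfl
  · rintro ⟨g, hg⟩
    obtain ⟨u, hu, h, hh, rfl⟩ := (mem_borel hc).1 hg
    exact ⟨⟨⟨u, hu⟩, ⟨h, hh⟩⟩, rfl⟩

variable (hcomm : CommOne D T)
include hcomm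

/-- an element moving `U` into `B` lies in `B` -/
theorem mem_borel_of_conj {g : GL D.Idx F} (hg : g ∈ D.group F)
    (h : ∀ x ∈ Up D F, g * x * g⁻¹ ∈ D.borelSubgroup F) : g ∈ D.borelSubgroup F := by
  obtain ⟨L, u, t, v, hu, ht, hv, rfl⟩ := ChevField.exists_bruhat hc hcomm hg
  have hvU : v ∈ Up D F := uGen_mono (fun r _ h => h.1) hv
  have hn : nProd D F L ∈ D.diagonalSubgroup F := by
    refine nProd_mem_of_pos hc L fun i => ?_
    by_contra hneg
    have hp := simple_lt hc i.2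
    obtain ⟨c, -, hcx⟩ := nProd_conj_elX hc (F := F) L hp
    have hx := h (v⁻¹ * elX D F (D.simple i.val) 1 * v)
      (mul_mem (mul_mem (inv_mem hvU) (elX_mem_uGen hp (P := fun r => D.nroots / 2 ≤ r) (half_le_simple hc i.2) 1)) hvU)
    have hut : u * t ∈ D.borelSubgroup F := mul_mem (pos_le_borel hc hu) (diagonal_le_borel hc ht)
    have := mul_mem (mul_mem (inv_mem hut) hx) hut
    rw [show (u * t)⁻¹ * (u * t * nProd D F L * v * (v⁻¹ * elX D F (D.simple i.val) 1 * v) *
      (u * t * nProd D F L * v)⁻¹) * (u * t) = nProd D F L * elX D F (D.simple i.val) 1 * (nProd D F L)⁻¹ by group,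
      hcx, mul_one] at this
    exact elX_not_mem_borel hc (sigs_lt hc L hp) (by omega) c.ne_zero this
  exact mul_mem (mul_mem (mul_mem (pos_le_borel hc hu) (diagonal_le_borel hc ht))
    (diagonal_le_borel hc hn)) (pos_le_borel hc hvU)

theorem mem_borel_iff_normalizes {g : GL D.Idx F} (hg : g ∈ D.group F) :
    g ∈ D.borelSubgroup F ↔ ∀ x ∈ Up D F, g * x * g⁻¹ ∈ Up D F :=
  ⟨fun hb _ hx => borel_conj_pos hc hb hx,
    fun h => mem_borel_of_conj hc hcomm hg fun x hx => pos_le_borel hc (h x hx)⟩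

theorem sylow_pos [Finite F] (p : ℕ) [Fact p.Prime] [CharP F p] :
    ∃ P : Sylow p ↥(D.group F), (P : Subgroup ↥(D.group F)) = (Up D F).subgroupOf (D.group F) := by
  classical
  set G := D.group F
  set U' := (Up D F).subgroupOf G
  set B' := (D.borelSubgroup F).subgroupOf G
  have hU : IsPGroup p U' :=
    (Chev.isPGroup_pos hc (F := F) p).of_equiv (Subgroup.subgroupOfEquivOfLe (up_le_group hc)).symm
  haveI : Finite (GL D.Idx F) := inferInstance
  haveI : Finite ↥G := inferInstance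
  have hUB : U' ≤ B' := fun x hx => pos_le_borel hc hx
  -- `U` fixes only one coset of `B`
  have hmod := hU.card_modEq_card_fixedPoints (α := ↥G ⧸ B')
  have hfix : MulAction.fixedPoints U' (↥G ⧸ B') = {((1 : ↥G) : ↥G ⧸ B')} := by
    ext q
    induction q using QuotientGroup.induction_on with | H g => ?_
    rw [MulAction.mem_fixedPoints, Set.mem_singleton_iff, QuotientGroup.eq, mul_one]
    constructor
    · intro h
      refine Subgroup.mem_subgroupOf.2 (mem_borel_of_conj hc hcomm (inv_mem g.2) fun x hx => ?_)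
      let x' : ↥G := ⟨x, up_le_group hc hx⟩
      have hx' : x' ∈ U' := hx
      have h1 : (((x'⁻¹ * g : ↥G)) : ↥G ⧸ B') = (g : ↥G ⧸ B') := h ⟨x'⁻¹, inv_mem hx'⟩
      rw [QuotientGroup.eq, Subgroup.mem_subgroupOf] at h1
      simpa [x', mul_assoc] using h1
    · intro h u
      show ((((u : ↥G) * g : ↥G)) : ↥G ⧸ B') = (g : ↥G ⧸ B')
      rw [QuotientGroup.eq]
      have hg : g ∈ B' := inv_mem_iff.1 h
      exact mul_mem (inv_mem (mul_mem (hUB u.2) hg)) hg
  have hidx : ¬ p ∣ B'.index := by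
    intro hd
    rw [hfix, Nat.card_coe_set_eq, Set.ncard_singleton, ← Subgroup.index_eq_card] at hmod
    have h1 := (Nat.modEq_zero_iff_dvd.2 hd).symm.trans hmod
    exact (Fact.out : p.Prime).one_lt.ne' (Nat.dvd_one.1 (Nat.modEq_zero_iff_dvd.1 h1.symm))
  have hrel : ¬ p ∣ U'.relIndex B' := by
    rw [Subgroup.relIndex_subgroupOf (borel_le_group hc)]
    have hB := card_borel hc (F := F)
    have h2 := Subgroup.card_mul_index ((Up D F).subgroupOf (D.borelSubgroup F))
    rw [Nat.card_congr (Subgroup.subgroupOfEquivOfLe (pos_le_borel hc)).toEquiv, hB] at h2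
    rw [Subgroup.relIndex, Nat.eq_of_mul_eq_mul_left Nat.card_pos h2]
    exact diagonal_card_coprime hc p
  have hUidx : ¬ p ∣ U'.index := by
    rw [← Subgroup.relIndex_mul_index hUB]
    exact fun h => ((Fact.out : p.Prime).dvd_mul.1 h).elim hrel hidx
  exact ⟨hU.toSylow hUidx, rfl⟩

/-- conjugates of `U` meeting `U` trivially -/
theorem exists_conj_opposite {g : GL D.Idx F} (hg : g ∈ D.group F)
    (h : ∀ x ∈ Up D F, g * x * g⁻¹ ∈ Up D F → x = 1) :
    ∃ b ∈ Up D F, (∀ x ∈ Up D F, b⁻¹ * (g * x * g⁻¹) * b ∈ Um D F) ∧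
      ∀ y ∈ Um D F, ∃ x ∈ Up D F, b⁻¹ * (g * x * g⁻¹) * b = y := by
  obtain ⟨L, u, t, v, hu, ht, hv, rfl⟩ := ChevField.exists_bruhat hc hcomm hg
  have hvU : v ∈ Up D F := uGen_mono (fun r _ h => h.1) hv
  have hL : ∀ r, r < D.nroots → D.nroots / 2 ≤ r → sigs D T L r < D.nroots / 2 := by
    intro r hr hrp
    by_contra hpos
    push Not at hpos
    obtain ⟨c, -, hcx⟩ := nProd_conj_elX hc (F := F) L hr
    have h1 := h (v⁻¹ * elX D F r 1 * v)
      (mul_mem (mul_mem (inv_mem hvU) (elX_mem_uGen hr (P := fun r => D.nroots / 2 ≤ r) hrp 1)) hvU) (by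
        rw [show u * t * nProd D F L * v * (v⁻¹ * elX D F r 1 * v) * (u * t * nProd D F L * v)⁻¹ =
          u * (t * (nProd D F L * elX D F r 1 * (nProd D F L)⁻¹) * t⁻¹) * u⁻¹ by group, hcx]
        exact mul_mem (mul_mem hu (diag_conj_mem hc _ ht
          (elX_mem_uGen (sigs_lt hc L hr) (P := fun r => D.nroots / 2 ≤ r) hpos _))) (inv_mem hu))
    have h2 : elX D F r (1 : F) = 1 := by
      calc elX D F r (1 : F) = v * (v⁻¹ * elX D F r 1 * v) * v⁻¹ := by group
        _ = 1 := by rw [h1]; group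
    exact one_ne_zero ((elX_eq_one_iff hc hr _).1 h2)
  refine ⟨u, hu, fun x hx => ?_, fun y hy => ?_⟩
  · rw [show u⁻¹ * (u * t * nProd D F L * v * x * (u * t * nProd D F L * v)⁻¹) * u =
      t * (nProd D F L * (v * x * v⁻¹) * (nProd D F L)⁻¹) * t⁻¹ by group]
    exact diag_conj_mem hc _ ht (conj_flipped_mem hc hL (mul_mem (mul_mem hvU hx) (inv_mem hvU)))
  · refine ⟨v⁻¹ * ((nProd D F L)⁻¹ * (t⁻¹ * y * t) * nProd D F L) * v,
      mul_mem (mul_mem (inv_mem hvU) (mem_pos_of_flipped hc hL (diag_conj_mem' hc _ ht hy))) hvU, ?_⟩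
    group

end

end CfsgLib.ChevAut
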