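import Cfsg.Agent.Lib.ChevAut.Shape
import Cfsg.Agent.Lib.Chev.Comm
import Cfsg.Agent.Lib.Chevalley.RootChar
import Cfsg.Agent.Lib.Chevalley.FieldMap
import Cfsg.Prelude.Def_ChevAutomorphisms

/-!
Diagonal, field and graph automorphisms, and the decomposition of an automorphism of a finite
Chevalley group.
-/

set_option autoImplicit false
set_option linter.unusedSectionVars false

namespace CfsgLib.ChevAut

open Cfsg.Lie CfsgLib.Chev
open CfsgLib.ChevGraph (gX gX_eq coe_gX hom_ext_simple)
open scoped Matrix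

variable {D : ChevalleyDatum} {T : Tabs} {F : Type*} [Field F]

/-- the exponent attached to a node by a permutation of the nodes -/
def nodeExp (D : ChevalleyDatum) (π : Equiv.Perm (Fin D.rank)) (c : ℕ) (i : Fin D.rank) : ℕ :=
  D.graphExp c i.val (π i).val

/-- nodes at distance at most `n` from the first one -/
def joined (D : ChevalleyDatum) : ℕ → Fin D.rank → Bool
  | 0, i => i.val == 0
  | n + 1, i => joined D n i || (List.finRange D.rank).any fun j => j != i && cm D i j != 0 && joined D n j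

/-- the shape of the diagram: it is connected and bonds have a side `-1` -/
def LinkSpec (D : ChevalleyDatum) : Prop :=
  (∀ i j : Fin D.rank, i ≠ j →
    (cm D i j = 0 ↔ cm D j i = 0) ∧ (cm D i j ≠ 0 → cm D i j = -1 ∨ cm D j i = -1)) ∧
  ∀ i : Fin D.rank, joined D D.rank i = true

/-- simply laced -/
def FlatSpec (D : ChevalleyDatum) : Prop :=
  (∀ i j : Fin D.rank, i ≠ j → cm D i j = 0 ∨ cm D i j = -1) ∧
    ∀ i : Fin D.rank, D.isLong (D.simple i.val) = false

/-- two root lengths: the diagram has at most one nontrivial symmetry, and that one exchanges the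
lengths, with bonds of multiplicity `k` -/
def FlipSpec (D : ChevalleyDatum) (k : ℕ) : Prop :=
  ∀ π : Equiv.Perm (Fin D.rank), (∀ i j, cm D i j = 0 ↔ cm D (π i) (π j) = 0) → π = 1 ∨
    (D.IsDiagramSymmetry π ∧ (∃ i, nodeExp D π k i = 1) ∧
      (∀ i j, i ≠ j → cm D i j = -1 → (nodeExp D π k j : ℤ) = -cm D (π i) (π j) * nodeExp D π k i) ∧
      ∃ i j, i ≠ j ∧ cm D i j = -1 ∧ cm D (π i) (π j) = -(k : ℤ))

theorem linkSpec_of_mem (hD : D ∈ [chevG2, chevB2, chevD4, chevF4, chevE6, chevE7, chevE8]) :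
    LinkSpec D := by
  simp only [List.mem_cons, List.not_mem_nil, or_false] at hD
  rcases hD with rfl | rfl | rfl | rfl | rfl | rfl | rfl <;> unfold LinkSpec <;> decide +kernel

theorem flatSpec_of_mem (hD : D ∈ [chevD4, chevE6, chevE7, chevE8]) : FlatSpec D := by
  simp only [List.mem_cons, List.not_mem_nil, or_false] at hD
  rcases hD with rfl | rfl | rfl | rfl <;> unfold FlatSpec <;> decide +kernel

theorem flipSpec_g2 : FlipSpec chevG2 3 := by
  unfold FlipSpec nodeExp ChevalleyDatum.IsDiagramSymmetry; decide +kernel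

theorem flipSpec_b2 : FlipSpec chevB2 2 := by
  unfold FlipSpec nodeExp ChevalleyDatum.IsDiagramSymmetry; decide +kernel

theorem flipSpec_f4 : FlipSpec chevF4 2 := by
  unfold FlipSpec nodeExp ChevalleyDatum.IsDiagramSymmetry; decide +kernel

theorem bonds_eq_cm (i j : Fin D.rank) : D.bonds i.val j.val = cm D i j * cm D j i := rfl

theorem symmetry_of_cm {π : Equiv.Perm (Fin D.rank)} (h : ∀ i j, cm D (π i) (π j) = cm D i j) :
    D.IsDiagramSymmetry π := fun i j _ => by rw [bonds_eq_cm, bonds_eq_cm, h, h]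

theorem nodeExp_eq_one {π : Equiv.Perm (Fin D.rank)}
    (h : ∀ i, D.isLong (D.simple (π i).val) = D.isLong (D.simple i.val)) (c : ℕ) (i : Fin D.rank) :
    nodeExp D π c i = 1 := by
  rw [nodeExp, ChevalleyDatum.graphExp, h]
  cases D.isLong (D.simple i.val) <;> rfl

/-- an additive power map is the identity or the Frobenius map -/
theorem pow_eq_pow_ringChar {k : ℕ} (hk : k = 2 ∨ k = 3)
    (h : ∀ x y : F, (x + y) ^ k = x ^ k + y ^ k) (t : F) : t ^ k = t ^ ringChar F := by
  have h11 := h 1 1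
  by_cases h2 : (2 : F) = 0
  · haveI : CharP F 2 := CharTwo.of_one_ne_zero_of_two_eq_zero one_ne_zero h2
    rw [ringChar.eq F 2]
    rcases hk with rfl | rfl
    · rfl
    · have h1 := h t 1
      have h3 : t * (t + 1) = 0 := by linear_combination h1 + (-(t ^ 2) - t) * h2
      rcases mul_eq_zero.1 h3 with h0 | h0
      · simp [h0]
      · rw [eq_neg_of_add_eq_zero_left h0, show (-1 : F) = 1 by linear_combination -h2]; simp
  · rcases hk with rfl | rfl
    · exact absurd (show (2 : F) = 0 by linear_combination h11) h2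
    · have h6 : (2 : F) * 3 = 0 := by linear_combination h11
      have h3 : (3 : F) = 0 := (mul_eq_zero.1 h6).resolve_left h2
      haveI : Fact (Nat.Prime 3) := ⟨by norm_num⟩
      haveI : CharP F 3 := (CharP.charP_iff_prime_eq_zero (by norm_num)).2 (by exact_mod_cast h3)
      rw [ringChar.eq F 3]

section
variable {π : Equiv.Perm (Fin D.rank)} {f : Fin D.rank → (F ≃+* F)}

theorem link_pow {i j : Fin D.rank} (hij : cm D i j = -1) {m : ℕ} (hm : -cm D (π i) (π j) = (m : ℤ))
    (hm0 : 0 < m)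
    (hrel : ∀ (t : F), t ≠ 0 → f j t ^ cm D i j = f i t ^ cm D (π i) (π j)) :
    (∀ t, f j t = f i t ^ m) ∧ ∀ x y : F, (x + y) ^ m = x ^ m + y ^ m := by
  have h : ∀ t, f j t = f i t ^ m := by
    intro t
    by_cases ht : t = 0
    · simp [ht, hm0.ne']
    have := hrel t ht
    rw [hij, show cm D (π i) (π j) = -(m : ℤ) by omega, zpow_neg, zpow_neg, zpow_natCast, zpow_one] at this
    exact inv_injective this
  refine ⟨h, fun x y => ?_⟩
  obtain ⟨a, rfl⟩ := (f i).surjective x
  obtain ⟨b, rfl⟩ := (f i).surjective y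
  rw [← map_add, ← h, map_add, h, h]

/-- all the field automorphisms are powers of one -/
theorem exists_base (hlink : LinkSpec D) {w : Fin D.rank → ℕ} (hw : ∀ i, 0 < w i)
    (hroot : ∃ i, w i = 1)
    (hedge : ∀ i j, i ≠ j → cm D i j = -1 → (w j : ℤ) = -cm D (π i) (π j) * w i)
    (hrel : ∀ i j (t : F), t ≠ 0 → f j t ^ cm D i j = f i t ^ cm D (π i) (π j)) :
    ∃ σ : F ≃+* F, ∀ i t, f i t = σ t ^ w i := by
  obtain ⟨r, hr⟩ := hroot
  refine ⟨f r, ?_⟩
  let P : Fin D.rank → Prop := fun i => ∀ t, f i t = f r t ^ w i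
  have step : ∀ i j, i ≠ j → cm D i j = -1 → (P i ↔ P j) := by
    intro i j hij hc
    have hwe := hedge i j hij hc
    obtain ⟨m, hm⟩ : ∃ m : ℕ, -cm D (π i) (π j) = (m : ℤ) := ⟨(-cm D (π i) (π j)).toNat, by
      have : (0 : ℤ) < w j := by exact_mod_cast hw j
      have : (0 : ℤ) < w i := by exact_mod_cast hw i
      rw [Int.toNat_of_nonneg]
      nlinarith⟩
    rw [hm] at hwe
    have hwn : w j = m * w i := by exact_mod_cast hwe
    have hm0 : 0 < m := Nat.pos_of_ne_zero fun h => by
      rw [h, zero_mul] at hwn; exact (hw j).ne' hwn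
    obtain ⟨hfj, hadd⟩ := link_pow hc hm hm0 (hrel i j)
    constructor
    · intro h t
      rw [hfj, h, ← pow_mul, hwn, mul_comm]
    · intro h t
      let ρ : F →+* F := { toFun := fun x => x ^ m, map_one' := one_pow m, map_mul' := fun x y => mul_pow x y m,
                           map_zero' := zero_pow hm0.ne', map_add' := hadd }
      apply ρ.injective
      show f i t ^ m = (f r t ^ w i) ^ m
      rw [← hfj, h, ← pow_mul, hwn, mul_comm]
  have hadj : ∀ i j, i ≠ j → cm D i j ≠ 0 → (P i ↔ P j) := fun i j hij h =>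
    ((hlink.1 i j hij).2 h).elim (step i j hij) fun h' => (step j i (Ne.symm hij) h').symm
  have hall : ∀ n, ∀ i : Fin D.rank, joined D n i = true → ∀ z : Fin D.rank, z.val = 0 → (P i ↔ P z) := by
    intro n
    induction n with
    | zero =>
      intro i hi z hz
      rw [joined, beq_iff_eq] at hi
      rw [show i = z from Fin.ext (by omega)]
    | succ n ih =>
      intro i hi z hz
      simp only [joined, Bool.or_eq_true, List.any_eq_true, Bool.and_eq_true, bne_iff_ne] at hi
      rcases hi with hi | ⟨j, -, ⟨hji, hc⟩, hj⟩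
      · exact ih i hi z hz
      · exact (hadj i j (Ne.symm hji) hc).trans (ih j hj z hz)
  intro i
  have hz : (⟨0, by have := i.2; omega⟩ : Fin D.rank).val = 0 := rfl
  exact (hall _ i (hlink.2 i) _ hz).2 ((hall _ r (hlink.2 r) _ hz).1 fun t => by rw [hr, pow_one])

theorem isDiagramSymmetry_and_base
    (hD : D ∈ [chevG2, chevB2, chevD4, chevF4, chevE6, chevE7, chevE8])
    (hadj : ∀ i j, cm D i j = 0 ↔ cm D (π i) (π j) = 0)
    (hrel : ∀ i j (t : F), t ≠ 0 → f j t ^ cm D i j = f i t ^ cm D (π i) (π j)) :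
    D.IsDiagramSymmetry π ∧ ∃ σ : F ≃+* F, ∀ i t, f i t = σ t ^ nodeExp D π (ringChar F) i := by
  have hlink := linkSpec_of_mem hD
  have hnz : 0 < D.rank := by
    simp only [List.mem_cons, List.not_mem_nil, or_false] at hD
    rcases hD with rfl | rfl | rfl | rfl | rfl | rfl | rfl <;> decide +kernel
  have hcm2 : ∀ i : Fin D.rank, cm D i i = 2 := by
    obtain ⟨T, hc, -⟩ := exists_checked' hD
    exact cm_self hc
  -- permutations preserving the Cartan matrix and the lengths
  have flat : (∀ i j, cm D (π i) (π j) = cm D i j) →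
      (∀ i, D.isLong (D.simple (π i).val) = D.isLong (D.simple i.val)) →
      D.IsDiagramSymmetry π ∧ ∃ σ : F ≃+* F, ∀ i t, f i t = σ t ^ nodeExp D π (ringChar F) i := by
    intro hcm hl
    refine ⟨symmetry_of_cm hcm, ?_⟩
    obtain ⟨σ, hσ⟩ := exists_base hlink (w := fun _ => 1) (fun _ => Nat.one_pos) ⟨⟨0, hnz⟩, rfl⟩
      (fun i j _ h => by rw [hcm, h]; rfl) hrel
    exact ⟨σ, fun i t => by rw [hσ, nodeExp_eq_one hl]⟩
  have sl : FlatSpec D → D.IsDiagramSymmetry π ∧
      ∃ σ : F ≃+* F, ∀ i t, f i t = σ t ^ nodeExp D π (ringChar F) i := by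
    intro hs
    refine flat (fun i j => ?_) fun i => by rw [hs.2, hs.2]
    by_cases hij : i = j
    · subst hij; rw [hcm2, hcm2]
    have hπ : π i ≠ π j := fun e => hij (π.injective e)
    have h := hadj i j
    rcases hs.1 i j hij with h1 | h1 <;> rcases hs.1 _ _ hπ with h2 | h2 <;> omega
  have flip : ∀ k, (k = 2 ∨ k = 3) → FlipSpec D k → D.IsDiagramSymmetry π ∧
      ∃ σ : F ≃+* F, ∀ i t, f i t = σ t ^ nodeExp D π (ringChar F) i := by
    intro k hk hs
    rcases hs π hadj with rfl | ⟨hsym, hroot, hedge, i₀, j₀, -, h1, h2⟩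
    · exact flat (fun _ _ => rfl) fun _ => rfl
    refine ⟨hsym, ?_⟩
    have hpos : ∀ i, 0 < nodeExp D π k i := fun i => by
      rw [nodeExp, ChevalleyDatum.graphExp]; split_ifs <;> omega
    obtain ⟨σ, hσ⟩ := exists_base hlink hpos hroot hedge hrel
    refine ⟨σ, fun i t => ?_⟩
    rw [hσ, nodeExp, nodeExp, ChevalleyDatum.graphExp, ChevalleyDatum.graphExp]
    split_ifs
    · exact pow_eq_pow_ringChar hk (link_pow h1 (m := k) (by rw [h2, neg_neg]) (by omega) (hrel i₀ j₀)).2 _
    · rfl
  simp only [List.mem_cons, List.not_mem_nil, or_false] at hD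
  rcases hD with rfl | rfl | rfl | rfl | rfl | rfl | rfl
  · exact flip 3 (Or.inr rfl) flipSpec_g2
  · exact flip 2 (Or.inl rfl) flipSpec_b2
  · exact sl (flatSpec_of_mem (by simp))
  · exact flip 2 (Or.inl rfl) flipSpec_f4
  all_goals exact sl (flatSpec_of_mem (by simp))

end

section
variable (hc : Checked D T)
include hc

/-- a torus element of the adjoint group normalises the Chevalley group -/
theorem torus_conj_mem (a : Fin D.rank → Fˣ) {g : GL D.Idx F} (hg : g ∈ D.group F) :
    torus D T F a * g * (torus D T F a)⁻¹ ∈ D.group F := by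
  have hle : D.group F ≤ (D.group F).comap (MulAut.conj (torus D T F a)).toMonoidHom := by
    conv_lhs => rw [group_eq hc]
    rw [uGen_le_iff]
    intro r hr _ t
    show torus D T F a * elX D F r t * (torus D T F a)⁻¹ ∈ D.group F
    rw [torus_conj_elX hc a hr]
    exact elX_mem_group hc hr _
  exact hle hg

/-- conjugation by a torus element -/
noncomputable def diagHom : (Fin D.rank → Fˣ) →* MulAut ↥(D.group F) where
  toFun a :=
    { toFun := fun g => ⟨torus D T F a * g * (torus D T F a)⁻¹, torus_conj_mem hc a g.2⟩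
      invFun := fun g => ⟨torus D T F a⁻¹ * g * (torus D T F a⁻¹)⁻¹, torus_conj_mem hc a⁻¹ g.2⟩
      left_inv := fun g => Subtype.ext (by simp only [map_inv]; group)
      right_inv := fun g => Subtype.ext (by simp only [map_inv]; group)
      map_mul' := fun g h => Subtype.ext (by simp only [Subgroup.coe_mul]; group) }
  map_one' := MulEquiv.ext fun g => Subtype.ext (show torus D T F 1 * _ * _ = _ by simp)
  map_mul' a b := MulEquiv.ext fun g => Subtype.ext (by
    show torus D T F (a * b) * _ * _ = torus D T F a * (torus D T F b * _ * _) * _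
    rw [map_mul]; group)

theorem diagHom_gX (a : Fin D.rank → Fˣ) {r : ℕ} (hr : r < D.nroots) (t : F) :
    diagHom hc a (gX hc hr t) = gX hc hr ((chi a (rv D T r) : F) * t) :=
  Subtype.ext (torus_conj_elX hc a hr t)

theorem diagHom_isDiagonalAut (a : Fin D.rank → Fˣ) : D.IsDiagonalAut (diagHom hc a) := by
  refine ⟨fun r => chi a (rv D T r), ⟨fun r hr => by simp only [rv_neg hc hr, chi_neg], ?_⟩, fun g => ?_⟩
  · intro r s k hr hs hk
    obtain ⟨-, -, e⟩ := chainRoot_weight hc hr (k := 1) (Or.inl rfl) hk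
    rw [Nat.cast_one, one_smul] at e
    simp only [e, chi_add]
  · have key : ∀ b : Fin D.rank → Fˣ, D.charDiag F (fun r => chi b (rv D T r)) =
        ((torus D T F b : GL D.Idx F) : Matrix D.Idx D.Idx F) := by
      intro b
      rw [coe_torus, ChevalleyDatum.charDiag]
      congr 1
      funext x
      rcases x with i | r
      · simp [chi_zero]
      · simp
    have kinv : (fun r => (chi a (rv D T r))⁻¹) = fun r => chi a⁻¹ (rv D T r) := by
      funext r; simp [chi, inv_zpow, Finset.prod_inv_distrib]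
    show ((torus D T F a * g * (torus D T F a)⁻¹ : GL D.Idx F) : Matrix D.Idx D.Idx F) = _
    rw [kinv, key, key, map_inv]
    rfl

theorem fieldAut_gX (σ : F ≃+* F) {r : ℕ} (hr : r < D.nroots) (t : F) :
    Chevalley.groupFieldEquiv D σ (gX hc hr t) = gX hc hr (σ t) :=
  gX_eq hc hr (Chevalley.groupFieldEquiv_x D σ _ r t (coe_gX hc hr t))

theorem fieldAut_isFieldAut (σ : F ≃+* F) :
    D.IsFieldAut (Chevalley.groupFieldEquiv D σ : ↥(D.group F) ≃* ↥(D.group F)) :=
  ⟨σ, fun g r t _ h => Chevalley.groupFieldEquiv_x D σ g r t h⟩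

end

/-- the factors of a good automorphism -/
theorem good_decomposition [Finite F] (hD : D ∈ [chevG2, chevB2, chevD4, chevF4, chevE6, chevE7, chevE8])
    (hc : Checked D T) (hcomm : CommOne D T) {θ : ↥(D.group F) ≃* ↥(D.group F)} (hθ : Good θ) :
    ∃ (a : Fin D.rank → Fˣ) (g : ↥(D.group F) ≃* ↥(D.group F)) (σ : F ≃+* F),
      D.IsGraphAut g ∧ ∀ y, θ y = diagHom hc a (g (Chevalley.groupFieldEquiv D σ y)) := by
  obtain ⟨π, b, f, hS, hadj, hrel⟩ := exists_shape hc hcomm hθ
  obtain ⟨hsym, σ, hσ⟩ := isDiagramSymmetry_and_base hD hadj hrel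
  let a : Fin D.rank → Fˣ := fun j => b (π.symm j)
  let Φ : ↥(D.group F) ≃* ↥(D.group F) := Chevalley.groupFieldEquiv D σ
  let g : ↥(D.group F) ≃* ↥(D.group F) := (Φ.symm.trans θ).trans (diagHom hc a).symm
  have hg : ∀ y, diagHom hc a (g (Φ y)) = θ y := fun y => by
    show diagHom hc a ((diagHom hc a).symm (θ (Φ.symm (Φ y)))) = θ y
    rw [MulEquiv.apply_symm_apply, MulEquiv.symm_apply_apply]
  have hΦ : ∀ {r : ℕ} (hr : r < D.nroots) (t : F), Φ.symm (gX hc hr t) = gX hc hr (σ.symm t) :=
    fun hr t => by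
      rw [MulEquiv.symm_apply_eq]
      show _ = Chevalley.groupFieldEquiv D σ _
      rw [fieldAut_gX, σ.apply_symm_apply]
  refine ⟨a, g, σ, ⟨π, hsym, fun y i t => ⟨fun h => ?_, fun h => ?_⟩⟩, fun y => (hg y).symm⟩
  · have e : g y = gX hc (simple_lt hc (π i).2) (t ^ nodeExp D π (ringChar F) i) := by
      rw [gX_eq hc (simple_lt hc i.2) h]
      show (diagHom hc a).symm (θ (Φ.symm _)) = _
      rw [hΦ, hS.pos, MulEquiv.symm_apply_eq, diagHom_gX, rv_simple hc, chi_single, zpow_one, hσ,
        σ.apply_symm_apply]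
      simp only [a, Equiv.symm_apply_apply]
    rw [e, coe_gX]; rfl
  · have e : g y = gX hc (neg_lt hc (simple_lt hc (π i).2)) (t ^ nodeExp D π (ringChar F) i) := by
      rw [gX_eq hc (neg_lt hc (simple_lt hc i.2)) h]
      show (diagHom hc a).symm (θ (Φ.symm _)) = _
      rw [hΦ, hS.neg, MulEquiv.symm_apply_eq, diagHom_gX, rv_neg hc (simple_lt hc (π i).2), chi_neg,
        rv_simple hc, chi_single, zpow_one, hσ, σ.apply_symm_apply]
      simp only [a, Equiv.symm_apply_apply]
    rw [e, coe_gX]; rfl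

theorem automorphism_decomposition [Finite F]
    (hD : D ∈ [chevG2, chevB2, chevD4, chevF4, chevE6, chevE7, chevE8])
    (θ : ↥(D.group F) ≃* ↥(D.group F)) :
    ∃ (x : ↥(D.group F)) (d g f : ↥(D.group F) ≃* ↥(D.group F)),
      D.IsDiagonalAut d ∧ D.IsGraphAut g ∧ D.IsFieldAut f ∧ ∀ y, θ y = x * d (g (f y)) * x⁻¹ := by
  obtain ⟨T, hc, hcomm⟩ := exists_checked' hD
  obtain ⟨x, hx⟩ := exists_good hc hcomm θ
  obtain ⟨a, g, σ, hg, e⟩ := good_decomposition hD hc hcomm hx
  refine ⟨x⁻¹, diagHom hc a, g, Chevalley.groupFieldEquiv D σ, diagHom_isDiagonalAut hc a, hg,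
    fieldAut_isFieldAut hc σ, fun y => ?_⟩
  rw [← e y, MulEquiv.trans_apply, MulAut.conj_apply]
  group

end CfsgLib.ChevAut
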