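import Cfsg.Agent.Lib.ChevAut.Decomp
import Cfsg.Agent.Lib.Semilinear.NormalAbelian
import Cfsg.Prelude.Def_KGroupFacts

/-!
The outer automorphism group of a finite Chevalley group.
-/

set_option autoImplicit false
set_option linter.unusedSectionVars false

namespace CfsgLib.ChevAut

open Cfsg.Lie CfsgLib.Chev
open CfsgLib.ChevGraph (gX gX_eq coe_gX hom_ext_simple)
open scoped Matrix

variable {D : ChevalleyDatum} {T : Tabs} {F : Type*} [Field F]

/-- the graph action on the root elements of the fundamental roots and their negatives -/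
structure GraphOn (hc : Checked D T) (π : Equiv.Perm (Fin D.rank)) (g : MulAut ↥(D.group F)) : Prop where
  pos : ∀ i t, g (gX hc (simple_lt hc i.2) t) =
    gX hc (simple_lt hc (π i).2) (t ^ nodeExp D π (ringChar F) i)
  neg : ∀ i t, g (gX hc (neg_lt hc (simple_lt hc i.2)) t) =
    gX hc (neg_lt hc (simple_lt hc (π i).2)) (t ^ nodeExp D π (ringChar F) i)

/-- `θ` carries the root group of each fundamental root `i` into that of `π i` -/
def PermOn (hc : Checked D T) (π : Equiv.Perm (Fin D.rank)) (θ : MulAut ↥(D.group F)) : Prop :=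
  ∀ i t, ∃ u, θ (gX hc (simple_lt hc i.2) t) = gX hc (simple_lt hc (π i).2) u

/-- some inner translate of `θ` is good and permutes the nodes by `π` -/
def PerRel (hc : Checked D T) (θ : MulAut ↥(D.group F)) (π : Equiv.Perm (Fin D.rank)) : Prop :=
  ∃ x : ↥(D.group F), Good (MulAut.conj x * θ) ∧ PermOn hc π (MulAut.conj x * θ)

/-- the field automorphisms as a homomorphism -/
noncomputable def fieldHom (D : ChevalleyDatum) (F : Type*) [Field F] :
    RingAut F →* MulAut ↥(D.group F) where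
  toFun σ := Chevalley.groupFieldEquiv D σ
  map_one' := MulEquiv.ext fun g => Subtype.ext (Units.ext (by
    rw [Chevalley.groupFieldEquiv_coe]; ext; rfl))
  map_mul' σ τ := MulEquiv.ext fun g => Subtype.ext (Units.ext (by
    rw [MulAut.mul_apply, Chevalley.groupFieldEquiv_coe, Chevalley.groupFieldEquiv_coe,
      Chevalley.groupFieldEquiv_coe]; ext; rfl))

section
variable (hc : Checked D T)
include hc

theorem fieldHom_gX (σ : RingAut F) {r : ℕ} (hr : r < D.nroots) (t : F) :
    fieldHom D F σ (gX hc hr t) = gX hc hr (σ t) := fieldAut_gX hc σ hr t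

theorem gX_inj {r : ℕ} (hr : r < D.nroots) {t u : F} (h : gX hc hr t = gX hc hr u) : t = u :=
  elX_inj hc hr (congrArg Subtype.val h)

theorem mulAut_ext {θ η : MulAut ↥(D.group F)}
    (hp : ∀ (i : Fin D.rank) (t : F), θ (gX hc (simple_lt hc i.2) t) = η (gX hc (simple_lt hc i.2) t))
    (hn : ∀ (i : Fin D.rank) (t : F),
      θ (gX hc (neg_lt hc (simple_lt hc i.2)) t) = η (gX hc (neg_lt hc (simple_lt hc i.2)) t)) : θ = η :=
  MulEquiv.ext fun y => hom_ext_simple hc θ.toMonoidHom η.toMonoidHom hp hn y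

theorem GraphOn.unique {π : Equiv.Perm (Fin D.rank)} {g g' : MulAut ↥(D.group F)}
    (h : GraphOn hc π g) (h' : GraphOn hc π g') : g = g' :=
  mulAut_ext hc (fun i t => by rw [h.pos, h'.pos]) fun i t => by rw [h.neg, h'.neg]

theorem GraphOn.one : GraphOn hc 1 (1 : MulAut ↥(D.group F)) := by
  refine ⟨fun i t => ?_, fun i t => ?_⟩ <;>
    rw [MulAut.one_apply, nodeExp_eq_one (π := 1) (fun _ => rfl), pow_one] <;> rfl

theorem GraphOn.permOn {π : Equiv.Perm (Fin D.rank)} {g : MulAut ↥(D.group F)} (h : GraphOn hc π g) :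
    PermOn hc π g := fun i t => ⟨_, h.pos i t⟩

theorem PermOn.mul {π π' : Equiv.Perm (Fin D.rank)} {θ θ' : MulAut ↥(D.group F)}
    (h : PermOn hc π θ) (h' : PermOn hc π' θ') : PermOn hc (π * π') (θ * θ') := by
  intro i t
  obtain ⟨u, hu⟩ := h' i t
  obtain ⟨v, hv⟩ := h (π' i) u
  exact ⟨v, by rw [MulAut.mul_apply, hu, hv]; rfl⟩

theorem PermOn.unique {π π' : Equiv.Perm (Fin D.rank)} {θ : MulAut ↥(D.group F)}
    (h : PermOn hc π θ) (h' : PermOn hc π' θ) : π = π' := by
  refine Equiv.ext fun i => ?_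
  obtain ⟨u, hu⟩ := h i 1
  obtain ⟨u', hu'⟩ := h' i 1
  have hu0 : u ≠ 0 := by
    rintro rfl
    rw [show gX hc (simple_lt hc (π i).2) (0 : F) = 1 from Subtype.ext (elX_zero hc F (simple_lt hc (π i).2)),
      ← map_one θ] at hu
    exact one_ne_zero ((elX_eq_one_iff hc (simple_lt hc i.2) (1 : F)).1 (congrArg Subtype.val (θ.injective hu)))
  exact Fin.ext (simple_inj hc (π i).2 (π' i).2 (elX_root_unique hc (simple_lt hc (π i).2)
    (simple_lt hc (π' i).2) hu0 (congrArg Subtype.val (hu.symm.trans hu'))))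

theorem torus_conj_uGen (a : Fin D.rank → Fˣ) {P : ℕ → Prop} {g : GL D.Idx F} (hg : g ∈ uGen D F P) :
    torus D T F a * g * (torus D T F a)⁻¹ ∈ uGen D F P := by
  have hle : uGen D F P ≤ (uGen D F P).comap (MulAut.conj (torus D T F a)).toMonoidHom := by
    rw [uGen_le_iff]
    intro r hr hP t
    show torus D T F a * elX D F r t * (torus D T F a)⁻¹ ∈ uGen D F P
    rw [torus_conj_elX hc a hr]
    exact elX_mem_uGen hr hP _
  exact hle hg

theorem good_of_family {G : Type*} [Group G] (Ψ : G →* MulAut ↥(D.group F))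
    (hp : ∀ a, SMap (Ψ a) (Up D F) (Up D F)) (hn : ∀ a, SMap (Ψ a) (Um D F) (Um D F)) (a : G) :
    Good (Ψ a) := by
  have e : ∀ x, (Ψ a).symm x = Ψ a⁻¹ x := fun x => by rw [map_inv]; rfl
  exact ⟨hp a, hn a, fun x hx => by rw [e]; exact hp _ x hx, fun x hx => by rw [e]; exact hn _ x hx⟩

theorem diagHom_good (a : Fin D.rank → Fˣ) : Good (diagHom hc a) :=
  good_of_family hc (diagHom hc) (fun b x hx => torus_conj_uGen hc b hx)
    (fun b x hx => torus_conj_uGen hc b hx) a

theorem fieldHom_smap (σ : RingAut F) (P : ℕ → Prop) :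
    SMap (fieldHom D F σ) (uGen D F P) (uGen D F P) := by
  have hle : uGen D F P ≤ (uGen D F P).comap (Chevalley.glFieldEquiv D.Idx σ).toMonoidHom := by
    rw [uGen_le_iff]
    intro r hr hP t
    rw [Subgroup.mem_comap]
    have e : (Chevalley.glFieldEquiv D.Idx σ).toMonoidHom (elX D F r t) = elX D F r (σ t) := by
      refine Units.ext ?_
      rw [coe_elX hc F hr]
      refine Eq.trans ?_ (Chevalley.x_map_ringHom D σ.toRingHom r t)
      rw [← coe_elX hc F hr]
      rfl
    rw [e]
    exact elX_mem_uGen hr hP _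
  intro x hx
  exact hle hx

theorem fieldHom_good (σ : RingAut F) : Good (fieldHom D F σ) :=
  good_of_family hc (fieldHom D F) (fun τ => fieldHom_smap hc τ _) (fun τ => fieldHom_smap hc τ _) σ

theorem conj_diag (c : Fin D.rank → Fˣ) :
    MulAut.conj (⟨torus D T F (hPar D F c), diagonal_le_group hc ((mem_diagonal hc).2 ⟨c, rfl⟩)⟩ :
      ↥(D.group F)) = diagHom hc (hPar D F c) := MulEquiv.ext fun _ => Subtype.ext rfl

theorem diag_mem_inn (c : Fin D.rank → Fˣ) : diagHom hc (hPar D F c) ∈ Cfsg.Inn ↥(D.group F) :=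
  ⟨_, conj_diag hc c⟩

theorem diagHom_comm (a b : Fin D.rank → Fˣ) : diagHom hc a * diagHom hc b = diagHom hc b * diagHom hc a := by
  rw [← map_mul, ← map_mul, mul_comm]

theorem isDiagonalAut_mem_range (hD : D ∈ [chevG2, chevB2, chevD4, chevF4, chevE6, chevE7, chevE8])
    {φ : MulAut ↥(D.group F)} (h : D.IsDiagonalAut φ) : φ ∈ (diagHom hc).range := by
  obtain ⟨χ, hχ, hφ⟩ := h
  have htest := Chevalley.charTest_of_mem hD
  have key : ∀ {r : ℕ} (hr : r < D.nroots) (t : F), φ (gX hc hr t) = gX hc hr ((χ r : F) * t) :=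
    fun hr t => gX_eq hc hr (by rw [hφ, coe_gX, Chevalley.charDiag_conj_x htest hχ hr])
  refine ⟨fun i => χ (D.simple i.val), mulAut_ext hc (fun i t => ?_) fun i t => ?_⟩
  · rw [key, diagHom_gX, rv_simple hc, chi_single, zpow_one]
  · rw [key, diagHom_gX, rv_neg hc (simple_lt hc i.2), chi_neg, rv_simple hc, chi_single, zpow_one,
      hχ.1 _ (simple_lt hc i.2)]

theorem isFieldAut_mem_range {φ : MulAut ↥(D.group F)} (h : D.IsFieldAut φ) : φ ∈ (fieldHom D F).range := by
  obtain ⟨σ, hσ⟩ := h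
  refine ⟨σ, mulAut_ext hc (fun i t => ?_) fun i t => ?_⟩ <;>
    rw [fieldHom_gX hc] <;> exact (gX_eq hc _ (hσ _ _ t (by first
      | exact simple_lt hc i.2
      | exact neg_lt hc (simple_lt hc i.2)) (coe_gX hc _ t))).symm

theorem closure_diag_eq (hD : D ∈ [chevG2, chevB2, chevD4, chevF4, chevE6, chevE7, chevE8]) :
    Subgroup.closure {φ : MulAut ↥(D.group F) | D.IsDiagonalAut φ} = (diagHom hc).range :=
  le_antisymm ((Subgroup.closure_le _).2 fun _ h => isDiagonalAut_mem_range hc hD h)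
    (by rintro _ ⟨a, rfl⟩; exact Subgroup.subset_closure (diagHom_isDiagonalAut hc a))

theorem closure_field_eq :
    Subgroup.closure {φ : MulAut ↥(D.group F) | D.IsFieldAut φ} = (fieldHom D F).range :=
  le_antisymm ((Subgroup.closure_le _).2 fun _ h => isFieldAut_mem_range hc h)
    (by rintro _ ⟨σ, rfl⟩; exact Subgroup.subset_closure (fieldAut_isFieldAut hc σ))

theorem field_diag (σ : RingAut F) (a : Fin D.rank → Fˣ) :
    fieldHom D F σ * diagHom hc a =
      diagHom hc (fun i => Units.map (σ : F ≃+* F).toRingHom.toMonoidHom (a i)) * fieldHom D F σ := by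
  refine mulAut_ext hc (fun i t => ?_) fun i t => ?_
  · simp only [MulAut.mul_apply, diagHom_gX, fieldHom_gX hc, rv_simple hc, chi_single, zpow_one, map_mul]
    rfl
  · simp only [MulAut.mul_apply, diagHom_gX, fieldHom_gX hc, rv_neg hc (simple_lt hc i.2), chi_neg, rv_simple hc,
      chi_single, zpow_one, map_mul, Units.val_inv_eq_inv_val, map_inv₀]
    rfl

theorem graph_diag {π : Equiv.Perm (Fin D.rank)} {g : MulAut ↥(D.group F)} (hg : GraphOn hc π g)
    (a : Fin D.rank → Fˣ) :
    g * diagHom hc a =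
      diagHom hc (fun j => a (π.symm j) ^ nodeExp D π (ringChar F) (π.symm j)) * g := by
  refine mulAut_ext hc (fun i t => ?_) fun i t => ?_
  · simp only [MulAut.mul_apply, diagHom_gX, hg.pos, rv_simple hc, chi_single, zpow_one, Equiv.symm_apply_apply,
      mul_pow, Units.val_pow_eq_pow_val]
  · simp only [MulAut.mul_apply, diagHom_gX, hg.neg, rv_neg hc (simple_lt hc i.2),
      rv_neg hc (simple_lt hc (π i).2), chi_neg, rv_simple hc, chi_single, zpow_one, Equiv.symm_apply_apply, mul_pow,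
      Units.val_inv_eq_inv_val, Units.val_pow_eq_pow_val, inv_pow]

theorem graph_field {π : Equiv.Perm (Fin D.rank)} {g : MulAut ↥(D.group F)} (hg : GraphOn hc π g)
    (σ : RingAut F) : g * fieldHom D F σ = fieldHom D F σ * g := by
  refine mulAut_ext hc (fun i t => ?_) fun i t => ?_
  · simp only [MulAut.mul_apply, hg.pos, fieldHom_gX hc, map_pow]
  · simp only [MulAut.mul_apply, hg.neg, fieldHom_gX hc, map_pow]

variable (hcomm : CommOne D T)
include hcomm

/-- a good inner automorphism is a diagonal one -/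
theorem conj_eq_diag {x : ↥(D.group F)} (h : Good (MulAut.conj x)) :
    ∃ c : Fin D.rank → Fˣ, MulAut.conj x = diagHom hc (hPar D F c) := by
  have hB : (x : GL D.Idx F) ∈ D.borelSubgroup F := mem_borel_of_conj hc hcomm x.2 fun y hy =>
    pos_le_borel hc (h.pos ⟨y, up_le_group hc hy⟩ hy)
  obtain ⟨L, -, hL, -⟩ := exists_longest_perm hc
  set n := nProd D F L
  have hn : n ∈ D.monomialSubgroup F := nProd_mem_monomial hc L
  have hnG := monomial_le_group hc hn
  have hx' : n⁻¹ * (x : GL D.Idx F) * n ∈ D.borelSubgroup F := by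
    refine mem_borel_of_conj hc hcomm (mul_mem (mul_mem (inv_mem hnG) x.2) hnG) fun y hy => pos_le_borel hc ?_
    have h1 := conj_flipped_mem hc hL hy
    have h2 := h.neg ⟨_, um_le_group hc h1⟩ h1
    have h3 := mem_pos_of_flipped hc hL h2
    convert h3 using 1
    show _ = n⁻¹ * ((x : GL D.Idx F) * (n * y * n⁻¹) * (x : GL D.Idx F)⁻¹) * n
    group
  obtain ⟨u, hu, k, hk, e⟩ := (mem_borel hc).1 hx'
  have hmem : (x : GL D.Idx F) ∈ Um D F ⊔ D.diagonalSubgroup F := by
    rw [show (x : GL D.Idx F) = (n * u * n⁻¹) * (n * k * n⁻¹) by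
      rw [show (x : GL D.Idx F) = n * (n⁻¹ * x * n) * n⁻¹ by group, e]; group]
    exact mul_mem (Subgroup.mem_sup_left (conj_flipped_mem hc hL hu))
      (Subgroup.mem_sup_right (monomial_conj_diagonal hc hn hk))
  obtain ⟨c, hcx⟩ := (mem_diagonal hc).1 (borel_inf_negH hc hB hmem)
  exact ⟨c, by rw [← conj_diag hc c]; exact congrArg _ (Subtype.ext hcx.symm)⟩

variable (hD : D ∈ [chevG2, chevB2, chevD4, chevF4, chevE6, chevE7, chevE8]) [Finite F]
include hD

/-- the factors of a good automorphism, with the graph factor good -/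
theorem good_factor {θ : MulAut ↥(D.group F)} (hθ : Good θ) :
    ∃ (a : Fin D.rank → Fˣ) (π : Equiv.Perm (Fin D.rank)) (g : MulAut ↥(D.group F)) (σ : RingAut F),
      GraphOn hc π g ∧ Good g ∧ θ = diagHom hc a * g * fieldHom D F σ ∧
      (∀ i j, cm D i j = 0 ↔ cm D (π i) (π j) = 0) := by
  obtain ⟨π, b, f, hS, hadj, hrel⟩ := exists_shape hc hcomm hθ
  obtain ⟨-, σ, hσ⟩ := isDiagramSymmetry_and_base hD hadj hrel
  let a : Fin D.rank → Fˣ := fun j => b (π.symm j)
  let g : MulAut ↥(D.group F) := (diagHom hc a)⁻¹ * θ * (fieldHom D F σ)⁻¹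
  have hgood : Good g :=
    ((fieldHom_good hc σ).symm.trans hθ).trans (diagHom_good hc a).symm
  refine ⟨a, π, g, σ, ⟨fun i t => ?_, fun i t => ?_⟩, hgood, by simp only [g]; group, hadj⟩
  · simp only [g, MulAut.mul_apply, ← map_inv, fieldHom_gX hc, hS.pos, diagHom_gX, rv_simple hc, chi_single,
      zpow_one, Pi.inv_apply, a, Equiv.symm_apply_apply, hσ]
    rw [← mul_assoc, Units.inv_mul, one_mul, show σ (σ⁻¹ t) = t from σ.apply_symm_apply t]
  · simp only [g, MulAut.mul_apply, ← map_inv, fieldHom_gX hc, hS.neg, diagHom_gX,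
      rv_neg hc (simple_lt hc (π i).2), chi_neg, rv_simple hc, chi_single,
      zpow_one, Pi.inv_apply, inv_inv, a, Equiv.symm_apply_apply, hσ]
    rw [← mul_assoc, Units.mul_inv, one_mul, show σ (σ⁻¹ t) = t from σ.apply_symm_apply t]

/-- `θ` modulo inner automorphisms -/
theorem out_factor (θ : MulAut ↥(D.group F)) :
    ∃ (x : ↥(D.group F)) (a : Fin D.rank → Fˣ) (π : Equiv.Perm (Fin D.rank)) (g : MulAut ↥(D.group F))
      (σ : RingAut F), GraphOn hc π g ∧ Good g ∧ MulAut.conj x * θ = diagHom hc a * g * fieldHom D F σ ∧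
      (∀ i j, cm D i j = 0 ↔ cm D (π i) (π j) = 0) ∧ PerRel hc θ π := by
  obtain ⟨x, hx⟩ := exists_good hc hcomm θ
  have hx' : Good (MulAut.conj x * θ) := hx
  obtain ⟨a, π, g, σ, hg, hgood, e, hadj⟩ := good_factor hc hcomm hD hx'
  refine ⟨x, a, π, g, σ, hg, hgood, e, hadj, x, hx', ?_⟩
  rw [e]
  intro i t
  exact ⟨_, by rw [MulAut.mul_apply, MulAut.mul_apply, fieldHom_gX hc, hg.pos, diagHom_gX]⟩

theorem perRel_unique {θ : MulAut ↥(D.group F)} {π π' : Equiv.Perm (Fin D.rank)} (h : PerRel hc θ π)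
    (h' : PerRel hc θ π') : π = π' := by
  obtain ⟨x, hx, hπ⟩ := h
  obtain ⟨y, hy, hπ'⟩ := h'
  have e : MulAut.conj (y * x⁻¹) = (MulAut.conj y * θ) * (MulAut.conj x * θ)⁻¹ := by
    rw [map_mul, map_inv]; group
  have hgood : Good (MulAut.conj (y * x⁻¹)) := by rw [e]; exact hx.symm.trans hy
  obtain ⟨c, hcx⟩ := conj_eq_diag hc hcomm hgood
  have e' : MulAut.conj y * θ = diagHom hc (hPar D F c) * (MulAut.conj x * θ) := by
    rw [← hcx, e]; group
  refine (PermOn.unique hc (fun i t => ?_) hπ')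
  obtain ⟨u, hu⟩ := hπ i t
  exact ⟨_, by rw [e', MulAut.mul_apply, hu, diagHom_gX]⟩

theorem perRel_mul {θ θ' : MulAut ↥(D.group F)} {π π' : Equiv.Perm (Fin D.rank)} (h : PerRel hc θ π)
    (h' : PerRel hc θ' π') : PerRel hc (θ * θ') (π * π') := by
  obtain ⟨x, hx, hπ⟩ := h
  obtain ⟨y, hy, hπ'⟩ := h'
  have e : MulAut.conj (x * θ y) * (θ * θ') = (MulAut.conj x * θ) * (MulAut.conj y * θ') := by
    refine MulEquiv.ext fun z => ?_
    simp [MulAut.conj_apply, mul_assoc]
  refine ⟨x * θ y, ?_, ?_⟩ <;> rw [e]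
  · exact hy.trans hx
  · exact PermOn.mul hc hπ hπ'

omit hD in
theorem perRel_inn (x : ↥(D.group F)) : PerRel hc (MulAut.conj x) 1 := by
  refine ⟨x⁻¹, ?_, fun i t => ⟨t, ?_⟩⟩ <;> rw [← map_mul, inv_mul_cancel, map_one]
  · exact ⟨fun _ h => h, fun _ h => h, fun _ h => h, fun _ h => h⟩
  · rfl

/-- the permutation of the nodes induced by an automorphism -/
noncomputable def perm (θ : MulAut ↥(D.group F)) : Equiv.Perm (Fin D.rank) :=
  (out_factor hc hcomm hD θ).choose_spec.choose_spec.choose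

theorem perm_spec (θ : MulAut ↥(D.group F)) : PerRel hc θ (perm hc hcomm hD θ) := by
  obtain ⟨g, σ, h⟩ := (out_factor hc hcomm hD θ).choose_spec.choose_spec.choose_spec
  exact h.2.2.2.2

/-- as a homomorphism -/
noncomputable def permHom : MulAut ↥(D.group F) →* Equiv.Perm (Fin D.rank) where
  toFun := perm hc hcomm hD
  map_one' := perRel_unique hc hcomm hD (perm_spec hc hcomm hD 1) (by
    simpa using perRel_inn hc hcomm (1 : ↥(D.group F)))
  map_mul' θ θ' := perRel_unique hc hcomm hD (perm_spec hc hcomm hD _)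
    (perRel_mul hc hcomm hD (perm_spec hc hcomm hD θ) (perm_spec hc hcomm hD θ'))

theorem permHom_apply_eq {θ : MulAut ↥(D.group F)} {π : Equiv.Perm (Fin D.rank)} (h : PerRel hc θ π) :
    permHom hc hcomm hD θ = π := perRel_unique hc hcomm hD (perm_spec hc hcomm hD θ) h

theorem permHom_range_adj {π : Equiv.Perm (Fin D.rank)} (h : π ∈ (permHom (F := F) hc hcomm hD).range) :
    ∀ i j, cm D i j = 0 ↔ cm D (π i) (π j) = 0 := by
  obtain ⟨θ, rfl⟩ := h
  obtain ⟨x, a, π, g, σ, -, -, -, hadj, hrel⟩ := out_factor hc hcomm hD θ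
  rwa [permHom_apply_eq hc hcomm hD hrel]

/-- automorphisms fixing every node are inner-diagonal-field -/
theorem permHom_ker : (permHom (F := F) hc hcomm hD).ker =
    Cfsg.Inn ↥(D.group F) ⊔ (diagHom hc).range ⊔ (fieldHom D F).range := by
  refine le_antisymm (fun θ hθ => ?_) (sup_le (sup_le ?_ ?_) ?_)
  · obtain ⟨x, a, π, g, σ, hg, -, e, -, hrel⟩ := out_factor hc hcomm hD θ
    rw [MonoidHom.mem_ker, permHom_apply_eq hc hcomm hD hrel] at hθ
    subst hθ
    rw [GraphOn.unique hc hg (GraphOn.one hc), mul_one] at e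
    rw [show θ = (MulAut.conj x)⁻¹ * (diagHom hc a * fieldHom D F σ) by rw [← e]; group]
    exact mul_mem (Subgroup.mem_sup_left (Subgroup.mem_sup_left (inv_mem ⟨x, rfl⟩)))
      (mul_mem (Subgroup.mem_sup_left (Subgroup.mem_sup_right ⟨a, rfl⟩)) (Subgroup.mem_sup_right ⟨σ, rfl⟩))
  · rintro _ ⟨x, rfl⟩
    exact permHom_apply_eq hc hcomm hD (perRel_inn hc hcomm x)
  · rintro _ ⟨a, rfl⟩
    refine permHom_apply_eq hc hcomm hD ⟨1, ?_, ?_⟩ <;> rw [map_one, one_mul]
    · exact diagHom_good hc a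
    · exact fun i t => ⟨_, diagHom_gX hc a _ t⟩
  · rintro _ ⟨σ, rfl⟩
    refine permHom_apply_eq hc hcomm hD ⟨1, ?_, ?_⟩ <;> rw [map_one, one_mul]
    · exact fieldHom_good hc σ
    · exact fun i t => ⟨_, fieldHom_gX hc σ _ t⟩

/-- the diagonal automorphisms, modulo inner ones, form a normal subgroup -/
theorem inn_diag_normal : (Cfsg.Inn ↥(D.group F) ⊔ (diagHom hc).range).Normal := by
  refine ⟨fun n hn θ => ?_⟩
  set K := Cfsg.Inn ↥(D.group F) ⊔ (diagHom hc).range
  have key : ∀ θ : MulAut ↥(D.group F), ∀ b, θ * diagHom hc b * θ⁻¹ ∈ K := by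
    intro θ b
    obtain ⟨x, a, π, g, σ, hg, -, e, -⟩ := out_factor hc hcomm hD θ
    set b' : Fin D.rank → Fˣ := fun i => Units.map (σ : F ≃+* F).toRingHom.toMonoidHom (b i)
    set b'' : Fin D.rank → Fˣ := fun j => b' (π.symm j) ^ nodeExp D π (ringChar F) (π.symm j)
    have h1 : (MulAut.conj x * θ) * diagHom hc b * (MulAut.conj x * θ)⁻¹ = diagHom hc b'' := by
      rw [e]
      calc diagHom hc a * g * fieldHom D F σ * diagHom hc b * (diagHom hc a * g * fieldHom D F σ)⁻¹
          = diagHom hc a * (g * (fieldHom D F σ * diagHom hc b) * (fieldHom D F σ)⁻¹ * g⁻¹) *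
              (diagHom hc a)⁻¹ := by group
        _ = diagHom hc a * (g * diagHom hc b' * g⁻¹) * (diagHom hc a)⁻¹ := by
            rw [field_diag hc, ← mul_assoc g, mul_inv_cancel_right]
        _ = _ := by
            rw [graph_diag hc hg, mul_inv_cancel_right, diagHom_comm hc, mul_inv_cancel_right]
    rw [show θ * diagHom hc b * θ⁻¹ = (MulAut.conj x)⁻¹ * diagHom hc b'' * MulAut.conj x by rw [← h1]; group]
    have hx : MulAut.conj x ∈ K := Subgroup.mem_sup_left ⟨x, rfl⟩
    exact mul_mem (mul_mem (inv_mem hx) (Subgroup.mem_sup_right ⟨b'', rfl⟩)) hx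
  have hle : K ≤ K.comap (MulAut.conj θ).toMonoidHom := by
    refine sup_le (fun y hy => ?_) ?_
    · exact Subgroup.mem_sup_left (Subgroup.Normal.conj_mem inferInstance y hy θ)
    · rintro _ ⟨b, rfl⟩
      exact key θ b
  exact hle hn

/-- the counting map of the outer classes -/
theorem card_out :
    Nat.card (Cfsg.Out ↥(D.group F)) = Nat.card (permHom (F := F) hc hcomm hD).range *
      (hPar D F).range.index * Nat.card (RingAut F) := by
  classical
  set R := (hPar D F).range
  let S := {π : Equiv.Perm (Fin D.rank) // ∃ g : MulAut ↥(D.group F), GraphOn hc π g ∧ Good g}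
  have hS : Nat.card S = Nat.card (permHom (F := F) hc hcomm hD).range := by
    refine Nat.card_congr (Equiv.subtypeEquivRight fun π => ⟨?_, ?_⟩)
    · rintro ⟨g, hg, hgood⟩
      exact ⟨g, permHom_apply_eq hc hcomm hD
        ⟨1, by rw [map_one, one_mul]; exact hgood, by rw [map_one, one_mul]; exact hg.permOn hc⟩⟩
    · rintro ⟨θ, rfl⟩
      obtain ⟨x, a, π, g, σ, hg, hgood, -, -, hrel⟩ := out_factor hc hcomm hD θ
      exact ⟨g, by rwa [permHom_apply_eq hc hcomm hD hrel], hgood⟩
  let rep : ((Fin D.rank → Fˣ) ⧸ R) × S × RingAut F → MulAut ↥(D.group F) := fun z =>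
    diagHom hc z.1.out * z.2.1.2.choose * fieldHom D F z.2.2
  let Ψ : ((Fin D.rank → Fˣ) ⧸ R) × S × RingAut F → Cfsg.Out ↥(D.group F) := fun z => QuotientGroup.mk (rep z)
  have hΨ : Function.Bijective Ψ := by
    constructor
    · rintro ⟨q, ⟨π, hπ⟩, σ⟩ ⟨q', ⟨π', hπ'⟩, σ'⟩ h
      set m := rep ⟨q, ⟨π, hπ⟩, σ⟩ with hm
      set m' := rep ⟨q', ⟨π', hπ'⟩, σ'⟩ with hm'
      obtain ⟨x, hx⟩ : m' * m⁻¹ ∈ Cfsg.Inn ↥(D.group F) := by
        rw [← QuotientGroup.eq_one_iff, QuotientGroup.mk_mul, QuotientGroup.mk_inv]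
        exact mul_inv_eq_one.2 h.symm
      obtain ⟨hg, hgood⟩ := hπ.choose_spec
      obtain ⟨hg', hgood'⟩ := hπ'.choose_spec
      have hmg : Good m := ((fieldHom_good hc σ).trans hgood).trans (diagHom_good hc q.out)
      have hmg' : Good m' := ((fieldHom_good hc σ').trans hgood').trans (diagHom_good hc q'.out)
      obtain ⟨c, hcx⟩ := conj_eq_diag hc hcomm (x := x) (by rw [hx]; exact hmg.symm.trans hmg')
      have e : m' = diagHom hc (hPar D F c) * m := by rw [← hcx, hx]; group
      have ev : ∀ i t, ((q'.out (π' i) : F) * σ' t ^ nodeExp D π' (ringChar F) i ≠ 0 → π i = π' i) ∧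
          (π i = π' i → (q'.out (π' i) : F) * σ' t ^ nodeExp D π' (ringChar F) i =
            (hPar D F c (π i) : F) * ((q.out (π i) : F) * σ t ^ nodeExp D π (ringChar F) i)) := by
        intro i t
        have h1 := congrArg (fun η : MulAut ↥(D.group F) => η (gX hc (simple_lt hc i.2) t)) e
        simp only [hm, hm', rep, MulAut.mul_apply, fieldHom_gX hc, hg.pos, hg'.pos, diagHom_gX, rv_simple hc,
          chi_single, zpow_one] at h1
        refine ⟨fun hne => ?_, fun he => ?_⟩
        · exact (Fin.ext (simple_inj hc (π' i).2 (π i).2 (elX_root_unique hc (simple_lt hc (π' i).2)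
            (simple_lt hc (π i).2) hne (congrArg Subtype.val h1)))).symm
        · refine elX_inj hc (simple_lt hc (π i).2) ?_
          have h2 := congrArg Subtype.val h1
          rw [← he] at h2 ⊢
          exact h2
      have hππ : π = π' := Equiv.ext fun i => (ev i 1).1 (by simp)
      subst hππ
      have hq : q = q' := by
        have he : q'.out = hPar D F c * q.out := by
          funext j
          have := (ev (π.symm j) 1).2 rfl
          simp only [Equiv.apply_symm_apply, map_one, one_pow, mul_one] at this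
          exact Units.ext this
        rw [← QuotientGroup.out_eq' q, ← QuotientGroup.out_eq' q', he, QuotientGroup.mk_mul,
          (QuotientGroup.eq_one_iff (hPar D F c)).2 (show hPar D F c ∈ (hPar D F).range from ⟨c, rfl⟩), one_mul]
      subst hq
      have hnz : 0 < D.rank := by
        simp only [List.mem_cons, List.not_mem_nil, or_false] at hD
        rcases hD with rfl | rfl | rfl | rfl | rfl | rfl | rfl <;> decide +kernel
      have hc1 : ∀ j, hPar D F c j = 1 := fun j => by
        have := (ev (π.symm j) 1).2 rfl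
        simp only [Equiv.apply_symm_apply, map_one, one_pow, mul_one] at this
        exact Units.ext ((mul_eq_right₀ (Units.ne_zero (q.out j))).1 this.symm)
      have hσ : σ = σ' := by
        refine RingEquiv.ext fun t => ?_
        set i : Fin D.rank := ⟨0, hnz⟩
        have hpow : ∀ u, σ' u ^ nodeExp D π (ringChar F) i = σ u ^ nodeExp D π (ringChar F) i := fun u => by
          have := (ev i u).2 rfl
          rw [hc1, Units.val_one, one_mul] at this
          exact mul_left_cancel₀ (Units.ne_zero _) this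
        have h3 : gX hc (simple_lt hc (π i).2) (σ' t ^ nodeExp D π (ringChar F) i) =
            gX hc (simple_lt hc (π i).2) (σ t ^ nodeExp D π (ringChar F) i) := by rw [hpow]
        rw [← hg.pos, ← hg.pos] at h3
        exact (gX_inj hc _ (hπ.choose.injective h3)).symm
      subst hσ
      rfl
    · intro z
      induction z using QuotientGroup.induction_on with | H θ => ?_
      obtain ⟨x, a, π, g, σ, hg, hgood, e, -, hrel⟩ := out_factor hc hcomm hD θ
      refine ⟨⟨QuotientGroup.mk a, ⟨π, g, hg, hgood⟩, σ⟩, ?_⟩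
      show QuotientGroup.mk _ = QuotientGroup.mk θ
      set π₀ : S := ⟨π, g, hg, hgood⟩
      have hgg : π₀.2.choose = g := GraphOn.unique hc π₀.2.choose_spec.1 hg
      set a' := (QuotientGroup.mk a : (Fin D.rank → Fˣ) ⧸ R).out
      obtain ⟨c, hca⟩ : a⁻¹ * a' ∈ R := QuotientGroup.eq.1 (QuotientGroup.out_eq' _).symm
      have e2 : rep ⟨QuotientGroup.mk a, π₀, σ⟩ = diagHom hc (hPar D F c) * (MulAut.conj x * θ) := by
        show diagHom hc a' * π₀.2.choose * fieldHom D F σ = _
        rw [hgg, e, hca, ← mul_assoc, ← mul_assoc, ← map_mul, mul_comm a⁻¹, inv_mul_cancel_right]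
      rw [e2, QuotientGroup.mk_mul, QuotientGroup.mk_mul, (QuotientGroup.eq_one_iff _).2 (diag_mem_inn hc c),
        (QuotientGroup.eq_one_iff _).2 (show MulAut.conj x ∈ Cfsg.Inn ↥(D.group F) from ⟨x, rfl⟩), one_mul, one_mul]
  rw [← Nat.card_congr (Equiv.ofBijective Ψ hΨ), Nat.card_prod, Nat.card_prod, hS, Subgroup.index_eq_card]
  ring

end

end CfsgLib.ChevAut
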