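import Cfsg.Agent.Lib.ChevAut.Out
import Cfsg.Agent.Lib.Chevalley.DiagramSym
import Cfsg.Agent.Lib.Chevalley.SignPerm
import Cfsg.Agent.Lib.ChevField.Main

/-!
Diagram symmetries realised by automorphisms, the cokernel of the torus map, and the orders and
structure of the outer automorphism groups.
-/

set_option autoImplicit false
set_option linter.unusedSectionVars false

namespace CfsgLib.ChevAut

open Cfsg.Lie CfsgLib.Chev
open CfsgLib.ChevGraph (gX gX_eq coe_gX)
open scoped Matrix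

variable {D : ChevalleyDatum} {T : Tabs} {F : Type*} [Field F]

/-- integral data computing the cokernel of the Cartan matrix as a cyclic group of order `d` -/
def CokerCert (D : ChevalleyDatum) (d : ℕ) (c : Fin D.rank → ℤ) (i₀ : Fin D.rank)
    (M : Fin D.rank → Fin D.rank → ℤ) (v : Fin D.rank → ℤ) : Prop :=
  c i₀ = 1 ∧
  (∀ i j, ∑ k, M i k * cm D k j = (if i = j then 1 else 0) - (if j = i₀ then c i else 0)) ∧
  (∀ j, ∑ k, v k * cm D k j = if j = i₀ then (d : ℤ) else 0) ∧
  ∀ k, (d : ℤ) ∣ ∑ j, cm D k j * c j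

theorem index_hPar [Finite F] {d : ℕ} {c : Fin D.rank → ℤ} {i₀ : Fin D.rank}
    {M : Fin D.rank → Fin D.rank → ℤ} {v : Fin D.rank → ℤ} (h : CokerCert D d c i₀ M v) :
    (hPar D F).range.index = Nat.gcd d (Nat.card F - 1) := by
  classical
  obtain ⟨hc1, hM, hv, hdvd⟩ := h
  let η : (Fin D.rank → Fˣ) →* Fˣ :=
    { toFun := fun a => ∏ j, a j ^ c j
      map_one' := by simp
      map_mul' := fun a b => by simp [mul_zpow, Finset.prod_mul_distrib] }
  have hhPar : ∀ (w : Fin D.rank → Fˣ) (j : Fin D.rank), hPar D F w j = ∏ k, w k ^ cm D k j := fun _ _ => rfl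
  have hker : (hPar D F).range = (powMonoidHom d : Fˣ →* Fˣ).range.comap η := by
    ext a
    constructor
    · rintro ⟨w, rfl⟩
      refine ⟨∏ k, w k ^ ((∑ j, cm D k j * c j) / (d : ℤ)), ?_⟩
      show (∏ k, w k ^ ((∑ j, cm D k j * c j) / (d : ℤ))) ^ d = ∏ j, hPar D F w j ^ c j
      simp only [hhPar, ← Finset.prod_zpow, ← zpow_mul]
      rw [Finset.prod_comm, ← Finset.prod_pow]
      refine Finset.prod_congr rfl fun k _ => ?_
      rw [prod_zpow_sum, ← zpow_natCast, ← zpow_mul, Int.ediv_mul_cancel (hdvd k)]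
    · rintro ⟨w, hw⟩
      have hw' : w ^ d = ∏ j, a j ^ c j := hw
      refine ⟨(fun k => ∏ i, a i ^ M i k) * fun k => w ^ v k, funext fun j => ?_⟩
      rw [map_mul, Pi.mul_apply, hhPar, hhPar]
      simp only [← Finset.prod_zpow, ← zpow_mul]
      rw [Finset.prod_comm, prod_zpow_sum, hv]
      simp only [prod_zpow_sum, hM]
      rw [show (∏ i, a i ^ ((if i = j then (1 : ℤ) else 0) - if j = i₀ then c i else 0)) =
        (∏ i, a i ^ (if i = j then (1 : ℤ) else 0)) * (∏ i, a i ^ (if j = i₀ then c i else 0))⁻¹ by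
          simp only [zpow_sub, Finset.prod_mul_distrib, Finset.prod_inv_distrib]]
      rw [Finset.prod_eq_single j (fun k _ hk => by rw [if_neg hk, zpow_zero]) (by simp), if_pos rfl, zpow_one]
      by_cases hj : j = i₀
      · simp only [if_pos hj]
        rw [zpow_natCast, hw', inv_mul_cancel_right]
      · simp [hj]
  have hsurj : Function.Surjective η := by
    intro u
    refine ⟨Pi.mulSingle i₀ u, ?_⟩
    show ∏ j, (Pi.mulSingle i₀ u : Fin D.rank → Fˣ) j ^ c j = u
    rw [Finset.prod_eq_single i₀ (fun k _ hk => by rw [Pi.mulSingle_eq_of_ne hk, one_zpow]) (by simp),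
      Pi.mulSingle_eq_same, hc1, zpow_one]
  rw [hker, Subgroup.index_comap_of_surjective _ hsurj, IsCyclic.index_powMonoidHom_range, Nat.card_units,
    Nat.gcd_comm]

/-- the Cartan matrix of `E_7` has cokernel of order two -/
theorem cokerCert_e7 : ∃ c i₀ M v, CokerCert chevE7 2 c i₀ M v := by
  refine ⟨fun i => ([0, 1, 0, 0, 1, 0, 1] : List ℤ).getD i.val 0, (⟨1, by decide +kernel⟩ : Fin chevE7.rank),
    fun i k => (([[2, 2, 3, 4, 3, 2, 1], [0, 0, 0, 0, 0, 0, 0], [3, 4, 6, 8, 6, 4, 2], [4, 6, 8, 12, 9, 6, 3],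
      [1, 1, 2, 3, 3, 2, 1], [2, 3, 4, 6, 5, 4, 2], [-1, -2, -2, -3, -2, -1, 0]] : List (List ℤ)).getD i.val
      []).getD k.val 0,
    fun k => ([4, 7, 8, 12, 9, 6, 3] : List ℤ).getD k.val 0, ?_⟩
  unfold CokerCert
  decide +kernel

/-- the Cartan matrix of `E_6` has cokernel of order three -/
theorem cokerCert_e6 : ∃ c i₀ M v, CokerCert chevE6 3 c i₀ M v := by
  refine ⟨fun i => ([1, 0, 2, 0, 1, 2] : List ℤ).getD i.val 0, (⟨0, by decide +kernel⟩ : Fin chevE6.rank),
    fun i k => (([[0, 0, 0, 0, 0, 0], [1, 2, 2, 3, 2, 1], [-1, 0, 0, 0, 0, 0], [2, 3, 4, 6, 4, 2],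
      [0, 1, 1, 2, 2, 1], [-2, -1, -2, -2, -1, 0]] : List (List ℤ)).getD i.val []).getD k.val 0,
    fun k => ([4, 3, 5, 6, 4, 2] : List ℤ).getD k.val 0, ?_⟩
  unfold CokerCert
  decide +kernel

/-- the images of the roots of `D_4` under the transposition of two outer nodes -/
def d4SwapRho : List ℕ :=
  [0, 1, 3, 2, 4, 5, 6, 8, 7, 9, 11, 10, 13, 12, 14, 16, 15, 17, 18, 19, 21, 20, 22, 23]

theorem d4Swap_symTest :
    Chevalley.symTest chevD4 [0, 1, 3, 2] [0, 1, 3, 2] d4SwapRho d4SwapRho (List.replicate 24 1) = true := by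
  decide +kernel

/-- tables data of a diagram symmetry compatible with the positive system -/
def SymData (D : ChevalleyDatum) (π : Equiv.Perm (Fin D.rank)) (ρ : List ℕ) (ε : List ℤ) : Prop :=
  (∀ r, r < D.nroots → (D.nroots / 2 ≤ r ↔ D.nroots / 2 ≤ ρ.getD r 0)) ∧
  ∀ i : Fin D.rank, ρ.getD (D.simple i.val) 0 = D.simple (π i).val ∧
    ρ.getD (D.neg (D.simple i.val)) 0 = D.neg (D.simple (π i).val) ∧
    ε.getD (D.simple i.val) 0 = 1 ∧ ε.getD (D.neg (D.simple i.val)) 0 = 1

/-- the permutation given by a list and its inverse -/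
def permOfList {n : ℕ} (l l' : List ℕ) (h : ∀ i : Fin n, l.getD i.val 0 < n ∧ l'.getD i.val 0 < n ∧
    l'.getD (l.getD i.val 0) 0 = i.val ∧ l.getD (l'.getD i.val 0) 0 = i.val) : Equiv.Perm (Fin n) where
  toFun i := ⟨l.getD i.val 0, (h i).1⟩
  invFun i := ⟨l'.getD i.val 0, (h i).2.1⟩
  left_inv i := Fin.ext (h i).2.2.1
  right_inv i := Fin.ext (h i).2.2.2

/-- the flip of `E_6` -/
def e6Flip : Equiv.Perm (Fin chevE6.rank) :=
  permOfList [5, 1, 4, 3, 2, 0] [5, 1, 4, 3, 2, 0] (by decide +kernel)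

/-- the triality of `D_4` -/
def d4Tri : Equiv.Perm (Fin chevD4.rank) := permOfList [2, 1, 3, 0] [3, 1, 0, 2] (by decide +kernel)

/-- the transposition of two outer nodes of `D_4` -/
def d4Swap : Equiv.Perm (Fin chevD4.rank) := permOfList [0, 1, 3, 2] [0, 1, 3, 2] (by decide +kernel)

section
variable (hc : Checked D T) (hcomm : CommOne D T)
  (hD : D ∈ [chevG2, chevB2, chevD4, chevF4, chevE6, chevE7, chevE8]) [Finite F]

theorem sym_perm_mem_range {πl πl' ρ ρ' : List ℕ} {ε : List ℤ}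
    (h : Chevalley.symTest D πl πl' ρ ρ' ε = true) {π : Equiv.Perm (Fin D.rank)}
    (hflat : ∀ i : Fin D.rank, D.isLong (D.simple i.val) = false) (hd : SymData D π ρ ε) :
    π ∈ (permHom (F := F) hc hcomm hD).range := by
  set g : MulAut ↥(D.group F) := Chevalley.symAut h
  have hgx : ∀ {r : ℕ} (hr : r < D.nroots) (t : F), ((g (gX hc hr t) : ↥(D.group F)) : GL D.Idx F) =
      elX D F (ρ.getD r 0) (((ε.getD r 0 : ℤ) : F) * t) := fun {r} hr t => Units.ext (by
    rw [coe_elX hc F (Chevalley.symTest_root h r hr).1]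
    exact Chevalley.symAut_x h _ r hr t (coe_gX hc hr t))
  -- `g` and its inverse respect the positive system
  have hmap : ∀ (P : ℕ → Prop), (∀ r, r < D.nroots → (P r ↔ P (ρ.getD r 0))) →
      SMap g (uGen D F P) (uGen D F P) ∧ SMap g.symm (uGen D F P) (uGen D F P) := by
    intro P hP
    have hle : uGen D F P ≤ (uGen D F P).comap (Chevalley.symGL h).toMonoidHom := by
      rw [uGen_le_iff]
      intro r hr hPr t
      have e : (Chevalley.symGL h).toMonoidHom (elX D F r t) =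
          elX D F (ρ.getD r 0) (((ε.getD r 0 : ℤ) : F) * t) := (hgx hr t)
      rw [Subgroup.mem_comap, e]
      exact elX_mem_uGen (Chevalley.symTest_root h r hr).1 ((hP r hr).1 hPr) _
    have hle' : uGen D F P ≤ (uGen D F P).map (Chevalley.symGL h).toMonoidHom := by
      rw [uGen_le_iff]
      intro r hr hPr t
      obtain ⟨-, hr', -, hrr⟩ := Chevalley.symTest_root h r hr
      refine ⟨elX D F (ρ'.getD r 0) (((ε.getD (ρ'.getD r 0) 0 : ℤ) : F) * t),
        elX_mem_uGen hr' ((hP _ hr').2 (by rwa [hrr])) _, ?_⟩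
      refine (hgx hr' _).trans ?_
      rw [hrr, ← mul_assoc, ← Int.cast_mul, (Chevalley.symTest_sign h _ hr').1, Int.cast_one, one_mul]
    refine ⟨fun x hx => hle hx, fun x hx => ?_⟩
    obtain ⟨y, hy, hyx⟩ := hle' hx
    have hxg : (g (g.symm x) : GL D.Idx F) = (x : GL D.Idx F) := by rw [MulEquiv.apply_symm_apply]
    have e : (g.symm x : GL D.Idx F) = y :=
      (Chevalley.symGL h).injective (hxg.trans hyx.symm)
    rwa [e]
  have hgood : Good g := by
    obtain ⟨h1, h2⟩ := hmap _ hd.1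
    obtain ⟨h3, h4⟩ := hmap (fun r => r < D.nroots / 2) fun r hr => by have := hd.1 r hr; omega
    exact ⟨h1, h3, h2, h4⟩
  have hexp : ∀ c i, nodeExp D π c i = 1 := nodeExp_eq_one fun i => by rw [hflat, hflat]
  refine ⟨g, permHom_apply_eq hc hcomm hD ⟨1, ?_, ?_⟩⟩ <;> rw [map_one, one_mul]
  · exact hgood
  · intro i t
    refine ⟨t, Subtype.ext ?_⟩
    rw [hgx, (hd.2 i).1, (hd.2 i).2.2.1, Int.cast_one, one_mul]
    rfl

theorem permHom_range_card_le {B : ℕ}
    (hB : (Finset.univ.filter fun π : Equiv.Perm (Fin D.rank) =>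
      ∀ i j, cm D i j = 0 ↔ cm D (π i) (π j) = 0).card ≤ B) :
    Nat.card (permHom (F := F) hc hcomm hD).range ≤ B := by
  classical
  refine le_trans ?_ hB
  rw [← Nat.card_eq_finsetCard]
  exact Nat.card_le_card_of_injective (fun π => ⟨π.1, Finset.mem_filter.2
    ⟨Finset.mem_univ _, permHom_range_adj hc hcomm hD π.2⟩⟩) fun a b e =>
      Subtype.ext (congrArg Subtype.val e :)

theorem permHom_range_eq_bot
    (h : ∀ π : Equiv.Perm (Fin D.rank), (∀ i j, cm D i j = 0 ↔ cm D (π i) (π j) = 0) → π = 1) :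
    (permHom (F := F) hc hcomm hD).range = ⊥ :=
  (Subgroup.eq_bot_iff_forall _).2 fun π hπ => h π (permHom_range_adj hc hcomm hD hπ)

end

/-- a perm fixing a chain of nodes: the step -/
theorem fix_next {r : ℕ} {A : Fin r → Fin r → Prop} {π : Equiv.Perm (Fin r)}
    (hπ : ∀ i j, A i j ↔ A (π i) (π j)) {p b : Fin r} {S : List (Fin r)} (hp : π p = p) (hpb : A p b)
    (hS : ∀ a ∈ S, π a = a) (hu : ∀ c, A p c → c = b ∨ c ∈ S) : π b = b := by
  rcases hu (π b) (by simpa [hp] using (hπ p b).1 hpb) with h | h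
  · exact h
  · exact π.injective (hS _ h)

end CfsgLib.ChevAut
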