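import Cfsg.Agent.Lib.ChevAut.OutCard

/-!
The outer automorphism groups of the individual types.
-/

set_option autoImplicit false
set_option linter.unusedSectionVars false

namespace CfsgLib.ChevAut

open Cfsg.Lie CfsgLib.Chev
open scoped Matrix

variable {D : ChevalleyDatum} {F : Type*} [Field F]

/-- adjacency of distinct nodes -/
def Adj (D : ChevalleyDatum) (a b : Fin D.rank) : Prop := a ≠ b ∧ cm D a b ≠ 0

instance adjDecidable (D : ChevalleyDatum) (a b : Fin D.rank) : Decidable (Adj D a b) :=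
  inferInstanceAs (Decidable (a ≠ b ∧ cm D a b ≠ 0))

theorem adj_map {π : Equiv.Perm (Fin D.rank)} (h : ∀ i j, cm D i j = 0 ↔ cm D (π i) (π j) = 0)
    {a b : Fin D.rank} (hab : Adj D a b) : Adj D (π a) (π b) :=
  ⟨fun e => hab.1 (π.injective e), fun e => hab.2 ((h a b).2 e)⟩

/-- a node of `E_7` -/
abbrev n7 (k : ℕ) (h : k < chevE7.rank := by decide +kernel) : Fin chevE7.rank := ⟨k, h⟩

/-- a node of `E_8` -/
abbrev n8 (k : ℕ) (h : k < chevE8.rank := by decide +kernel) : Fin chevE8.rank := ⟨k, h⟩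

/-- a node of `E_6` -/
abbrev n6 (k : ℕ) (h : k < chevE6.rank := by decide +kernel) : Fin chevE6.rank := ⟨k, h⟩

set_option synthInstance.maxSize 5000 in
set_option synthInstance.maxHeartbeats 400000 in
theorem e8_embed : ∀ a3 a1 : Fin chevE8.rank, Adj chevE8 a3 a1 →
    ∀ a2, Adj chevE8 a3 a2 ∧ a2 ≠ a1 → ∀ a0, Adj chevE8 a2 a0 ∧ a0 ≠ a3 →
    ∀ a4, Adj chevE8 a3 a4 ∧ a4 ≠ a1 ∧ a4 ≠ a2 → ∀ a5, Adj chevE8 a4 a5 ∧ a5 ≠ a3 →
    ∀ a6, Adj chevE8 a5 a6 ∧ a6 ≠ a4 → ∀ a7, Adj chevE8 a6 a7 ∧ a7 ≠ a5 →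
    a0.val = 0 ∧ a1.val = 1 ∧ a2.val = 2 ∧ a3.val = 3 ∧ a4.val = 4 ∧ a5.val = 5 ∧ a6.val = 6 ∧ a7.val = 7 := by
  decide +kernel

set_option synthInstance.maxSize 5000 in
set_option synthInstance.maxHeartbeats 400000 in
theorem e7_embed : ∀ a3 a1 : Fin chevE7.rank, Adj chevE7 a3 a1 →
    ∀ a2, Adj chevE7 a3 a2 ∧ a2 ≠ a1 → ∀ a0, Adj chevE7 a2 a0 ∧ a0 ≠ a3 →
    ∀ a4, Adj chevE7 a3 a4 ∧ a4 ≠ a1 ∧ a4 ≠ a2 → ∀ a5, Adj chevE7 a4 a5 ∧ a5 ≠ a3 →
    ∀ a6, Adj chevE7 a5 a6 ∧ a6 ≠ a4 →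
    a0.val = 0 ∧ a1.val = 1 ∧ a2.val = 2 ∧ a3.val = 3 ∧ a4.val = 4 ∧ a5.val = 5 ∧ a6.val = 6 := by
  decide +kernel

set_option synthInstance.maxSize 5000 in
set_option synthInstance.maxHeartbeats 400000 in
theorem e6_embed : ∀ a3 a1 : Fin chevE6.rank, Adj chevE6 a3 a1 →
    ∀ a2, Adj chevE6 a3 a2 ∧ a2 ≠ a1 → ∀ a0, Adj chevE6 a2 a0 ∧ a0 ≠ a3 →
    ∀ a4, Adj chevE6 a3 a4 ∧ a4 ≠ a1 ∧ a4 ≠ a2 → ∀ a5, Adj chevE6 a4 a5 ∧ a5 ≠ a3 →
    a1.val = 1 ∧ a3.val = 3 ∧ ((a0.val = 0 ∧ a2.val = 2 ∧ a4.val = 4 ∧ a5.val = 5) ∨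
      (a0.val = 5 ∧ a2.val = 4 ∧ a4.val = 2 ∧ a5.val = 0)) := by
  decide +kernel

theorem e8_sym (π : Equiv.Perm (Fin chevE8.rank))
    (h : ∀ i j, cm chevE8 i j = 0 ↔ cm chevE8 (π i) (π j) = 0) : π = 1 := by
  have A : ∀ {a b : Fin chevE8.rank}, Adj chevE8 a b → Adj chevE8 (π a) (π b) := fun hab => adj_map h hab
  have N : ∀ {a b : Fin chevE8.rank}, a ≠ b → π a ≠ π b := fun hab e => hab (π.injective e)
  obtain ⟨h0, h1, h2, h3, h4, h5, h6, h7⟩ := e8_embed (π (n8 3)) (π (n8 1)) (A (by decide +kernel))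
    (π (n8 2)) ⟨A (by decide +kernel), N (by decide +kernel)⟩
    (π (n8 0)) ⟨A (by decide +kernel), N (by decide +kernel)⟩
    (π (n8 4)) ⟨A (by decide +kernel), N (by decide +kernel), N (by decide +kernel)⟩
    (π (n8 5)) ⟨A (by decide +kernel), N (by decide +kernel)⟩
    (π (n8 6)) ⟨A (by decide +kernel), N (by decide +kernel)⟩
    (π (n8 7)) ⟨A (by decide +kernel), N (by decide +kernel)⟩
  refine Equiv.ext fun i => Fin.ext ?_
  obtain ⟨i, hi⟩ := i
  have hi' : i < 8 := hi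
  interval_cases i <;> assumption

theorem e7_sym (π : Equiv.Perm (Fin chevE7.rank))
    (h : ∀ i j, cm chevE7 i j = 0 ↔ cm chevE7 (π i) (π j) = 0) : π = 1 := by
  have A : ∀ {a b : Fin chevE7.rank}, Adj chevE7 a b → Adj chevE7 (π a) (π b) := fun hab => adj_map h hab
  have N : ∀ {a b : Fin chevE7.rank}, a ≠ b → π a ≠ π b := fun hab e => hab (π.injective e)
  obtain ⟨h0, h1, h2, h3, h4, h5, h6⟩ := e7_embed (π (n7 3)) (π (n7 1)) (A (by decide +kernel))
    (π (n7 2)) ⟨A (by decide +kernel), N (by decide +kernel)⟩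
    (π (n7 0)) ⟨A (by decide +kernel), N (by decide +kernel)⟩
    (π (n7 4)) ⟨A (by decide +kernel), N (by decide +kernel), N (by decide +kernel)⟩
    (π (n7 5)) ⟨A (by decide +kernel), N (by decide +kernel)⟩
    (π (n7 6)) ⟨A (by decide +kernel), N (by decide +kernel)⟩
  refine Equiv.ext fun i => Fin.ext ?_
  obtain ⟨i, hi⟩ := i
  have hi' : i < 7 := hi
  interval_cases i <;> assumption

theorem e6_sym (π : Equiv.Perm (Fin chevE6.rank))
    (h : ∀ i j, cm chevE6 i j = 0 ↔ cm chevE6 (π i) (π j) = 0) : π = 1 ∨ π = e6Flip := by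
  have A : ∀ {a b : Fin chevE6.rank}, Adj chevE6 a b → Adj chevE6 (π a) (π b) := fun hab => adj_map h hab
  have N : ∀ {a b : Fin chevE6.rank}, a ≠ b → π a ≠ π b := fun hab e => hab (π.injective e)
  obtain ⟨h1, h3, ⟨h0, h2, h4, h5⟩ | ⟨h0, h2, h4, h5⟩⟩ := e6_embed (π (n6 3)) (π (n6 1)) (A (by decide +kernel))
    (π (n6 2)) ⟨A (by decide +kernel), N (by decide +kernel)⟩
    (π (n6 0)) ⟨A (by decide +kernel), N (by decide +kernel)⟩
    (π (n6 4)) ⟨A (by decide +kernel), N (by decide +kernel), N (by decide +kernel)⟩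
    (π (n6 5)) ⟨A (by decide +kernel), N (by decide +kernel)⟩
  · left
    refine Equiv.ext fun i => Fin.ext ?_
    obtain ⟨i, hi⟩ := i
    have hi' : i < 6 := hi
    interval_cases i <;> assumption
  · right
    refine Equiv.ext fun i => Fin.ext ?_
    obtain ⟨i, hi⟩ := i
    have hi' : i < 6 := hi
    interval_cases i <;> assumption

theorem two_root_sym_card (hD : D ∈ [chevG2, chevB2, chevF4]) :
    (Finset.univ.filter fun π : Equiv.Perm (Fin D.rank) =>
      ∀ i j, cm D i j = 0 ↔ cm D (π i) (π j) = 0).card ≤ 2 := by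
  simp only [List.mem_cons, List.not_mem_nil, or_false] at hD
  rcases hD with rfl | rfl | rfl <;> decide +kernel

theorem d4_sym_card : (Finset.univ.filter fun π : Equiv.Perm (Fin chevD4.rank) =>
    ∀ i j, cm chevD4 i j = 0 ↔ cm chevD4 (π i) (π j) = 0).card ≤ 6 := by
  decide +kernel

theorem card_ringAut_of [Fintype F] {p f : ℕ} [Fact p.Prime] [CharP F p] (hF : Fintype.card F = p ^ f) :
    Nat.card (RingAut F) = f := (Semilinear.isCyclic_ringEquiv_and_card hF).2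

theorem out_card_trivial_graph [Fintype F] {p f : ℕ} [Fact p.Prime] [CharP F p] {T : Tabs}
    (hc : Checked D T) (hcomm : CommOne D T)
    (hD : D ∈ [chevG2, chevB2, chevD4, chevF4, chevE6, chevE7, chevE8]) (hF : Fintype.card F = p ^ f)
    (hsym : ∀ π : Equiv.Perm (Fin D.rank), (∀ i j, cm D i j = 0 ↔ cm D (π i) (π j) = 0) → π = 1) :
    Nat.card (Cfsg.Out ↥(D.group F)) = (hPar D F).range.index * f := by
  rw [card_out hc hcomm hD, card_ringAut_of hF, permHom_range_eq_bot hc hcomm hD hsym, Subgroup.card_bot,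
    one_mul]

theorem out_card_e8 [Fintype F] {p f : ℕ} [Fact p.Prime] [CharP F p] (hF : Fintype.card F = p ^ f)
    {M : Fin chevE8.rank → Fin chevE8.rank → ℤ} (hM : ChevField.CartanInv chevE8 M) :
    Nat.card (Cfsg.Out ↥(chevE8.group F)) = f := by
  obtain ⟨T, hc, hcomm⟩ := exists_checked' (D := chevE8) (by simp)
  rw [out_card_trivial_graph hc hcomm (by simp) hF e8_sym,
    MonoidHom.range_eq_top.2 (ChevField.hPar_surjective hM), Subgroup.index_top, one_mul]

theorem out_card_e7 [Fintype F] {p f : ℕ} [Fact p.Prime] [CharP F p] (hF : Fintype.card F = p ^ f) :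
    Nat.card (Cfsg.Out ↥(chevE7.group F)) = Nat.gcd 2 (p ^ f - 1) * f := by
  obtain ⟨T, hc, hcomm⟩ := exists_checked' (D := chevE7) (by simp)
  obtain ⟨c, i₀, M, v, h⟩ := cokerCert_e7
  rw [out_card_trivial_graph hc hcomm (by simp) hF e7_sym, index_hPar h, Nat.card_eq_fintype_card, hF]

theorem e6_range [Finite F] {T : Tabs} (hc : Checked chevE6 T) (hcomm : CommOne chevE6 T)
    (hD : chevE6 ∈ [chevG2, chevB2, chevD4, chevF4, chevE6, chevE7, chevE8]) :
    Nat.card (permHom (F := F) hc hcomm hD).range = 2 := by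
  refine le_antisymm ?_ ?_
  · refine permHom_range_card_le hc hcomm hD (le_trans (Finset.card_le_card (t := {1, e6Flip}) fun π hπ => ?_)
      Finset.card_le_two)
    rcases e6_sym π (Finset.mem_filter.1 hπ).2 with rfl | rfl <;> simp
  · have hmem := sym_perm_mem_range (F := F) hc hcomm hD Chevalley.e6Flip_symTest (π := e6Flip)
      (flatSpec_of_mem (by simp)).2 (by unfold SymData; decide +kernel)
    have hne : e6Flip ≠ 1 := by decide +kernel
    have : Nontrivial (permHom (F := F) hc hcomm hD).range :=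
      ⟨⟨⟨e6Flip, hmem⟩, 1, fun e => hne (congrArg Subtype.val e :)⟩⟩
    exact Finite.one_lt_card

theorem out_card_e6 [Fintype F] {p f : ℕ} [Fact p.Prime] [CharP F p] (hF : Fintype.card F = p ^ f) :
    Nat.card (Cfsg.Out ↥(chevE6.group F)) = 2 * Nat.gcd 3 (p ^ f - 1) * f := by
  obtain ⟨T, hc, hcomm⟩ := exists_checked' (D := chevE6) (by simp)
  obtain ⟨c, i₀, M, v, h⟩ := cokerCert_e6
  rw [card_out hc hcomm (by simp), card_ringAut_of hF, e6_range, index_hPar h, Nat.card_eq_fintype_card, hF]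

theorem d4_range [Finite F] {T : Tabs} (hc : Checked chevD4 T) (hcomm : CommOne chevD4 T)
    (hD : chevD4 ∈ [chevG2, chevB2, chevD4, chevF4, chevE6, chevE7, chevE8]) :
    Nat.card (permHom (F := F) hc hcomm hD).range = 6 ∧
      d4Tri ∈ (permHom (F := F) hc hcomm hD).range ∧ d4Swap ∈ (permHom (F := F) hc hcomm hD).range := by
  have hl := (flatSpec_of_mem (D := chevD4) (by simp)).2
  have h1 := sym_perm_mem_range (F := F) hc hcomm hD Chevalley.d4TriA_symTest (π := d4Tri) hl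
    (by unfold SymData; decide +kernel)
  have h2 := sym_perm_mem_range (F := F) hc hcomm hD d4Swap_symTest (π := d4Swap) hl
    (by unfold SymData; decide +kernel)
  refine ⟨le_antisymm (permHom_range_card_le hc hcomm hD d4_sym_card) ?_, h1, h2⟩
  set R := (permHom (F := F) hc hcomm hD).range
  have o3 : orderOf d4Tri = 3 := by
    haveI : Fact (Nat.Prime 3) := ⟨by norm_num⟩
    exact orderOf_eq_prime (by decide +kernel) (by decide +kernel)
  have o2 : orderOf d4Swap = 2 := orderOf_eq_prime (by decide +kernel) (by decide +kernel)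
  have d3 : 3 ∣ Nat.card R := o3 ▸ (Subgroup.orderOf_dvd_natCard R h1)
  have d2 : 2 ∣ Nat.card R := o2 ▸ (Subgroup.orderOf_dvd_natCard R h2)
  exact Nat.le_of_dvd Nat.card_pos (Nat.Coprime.mul_dvd_of_dvd_of_dvd (by norm_num : Nat.Coprime 2 3) d2 d3)

theorem out_structure [Finite F] (hD : D ∈ [chevG2, chevB2, chevD4, chevF4, chevE6, chevE7, chevE8])
    (Dbar Fbar : Subgroup (Cfsg.Out ↥(D.group F)))
    (hDbar : Dbar = (Subgroup.closure {φ : MulAut ↥(D.group F) | D.IsDiagonalAut φ}).map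
      (QuotientGroup.mk' (Cfsg.Inn ↥(D.group F))))
    (hFbar : Fbar = (Subgroup.closure {φ : MulAut ↥(D.group F) | D.IsFieldAut φ}).map
      (QuotientGroup.mk' (Cfsg.Inn ↥(D.group F)))) :
    Dbar.Normal ∧ IsMulCommutative ↥Dbar ∧ IsCyclic ↥Fbar ∧ (Dbar ⊔ Fbar).Normal ∧
      ((Dbar ⊔ Fbar).index = 1 ∨ (Dbar ⊔ Fbar).index = 2 ∨
        ((Dbar ⊔ Fbar).index = 6 ∧ ¬ commutator (Cfsg.Out ↥(D.group F)) ≤ Dbar ⊔ Fbar)) := by
  obtain ⟨T, hc, hcomm⟩ := exists_checked' hD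
  rw [closure_diag_eq hc hD] at hDbar
  rw [closure_field_eq hc] at hFbar
  set mk := QuotientGroup.mk' (Cfsg.Inn ↥(D.group F)) with hmk
  have hker : mk.ker = Cfsg.Inn ↥(D.group F) := QuotientGroup.ker_mk' _
  have hmks : Function.Surjective mk := QuotientGroup.mk'_surjective _
  have hInn : (Cfsg.Inn ↥(D.group F)).map mk = ⊥ := (Subgroup.map_eq_bot_iff _).2 hker.ge
  set π := permHom (F := F) hc hcomm hD
  have hsup : Dbar ⊔ Fbar = π.ker.map mk := by
    rw [permHom_ker hc hcomm hD, Subgroup.map_sup, Subgroup.map_sup, hInn, bot_sup_eq, hDbar, hFbar]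
  have hkerle : mk.ker ≤ π.ker := by
    rw [hker, permHom_ker hc hcomm hD]; exact le_sup_left.trans le_sup_left
  have hidx : (Dbar ⊔ Fbar).index = Nat.card π.range := by
    rw [hsup, Subgroup.index_map_eq _ hmks hkerle, Subgroup.index_ker]
  have hDn : Dbar.Normal := by
    have := inn_diag_normal hc hcomm hD (F := F)
    have e : Dbar = (Cfsg.Inn ↥(D.group F) ⊔ (diagHom hc).range).map mk := by
      rw [Subgroup.map_sup, hInn, bot_sup_eq, hDbar]
    rw [e]
    exact Subgroup.Normal.map this mk hmks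
  have hcomm' : IsMulCommutative ↥Dbar := by
    refine ⟨⟨fun a b => Subtype.ext ?_⟩⟩
    obtain ⟨_, ⟨u, rfl⟩, ha⟩ := (hDbar ▸ a.2 : (a : Cfsg.Out ↥(D.group F)) ∈ (diagHom hc).range.map mk)
    obtain ⟨_, ⟨v, rfl⟩, hb⟩ := (hDbar ▸ b.2 : (b : Cfsg.Out ↥(D.group F)) ∈ (diagHom hc).range.map mk)
    show (a : Cfsg.Out ↥(D.group F)) * b = b * a
    rw [← ha, ← hb, ← map_mul mk, ← map_mul mk, diagHom_comm hc]
  have hcyc : IsCyclic ↥Fbar := by
    haveI : Fintype F := Fintype.ofFinite F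
    obtain ⟨p, hp⟩ := CharP.exists F
    haveI : Fact p.Prime := ⟨CharP.char_is_prime F p⟩
    obtain ⟨n, -, hn⟩ := FiniteField.card F p
    haveI : IsCyclic (RingAut F) := (Semilinear.isCyclic_ringEquiv_and_card hn).1
    rw [hFbar, MonoidHom.map_range]
    exact isCyclic_of_surjective _ (MonoidHom.rangeRestrict_surjective _)
  have hn : (Dbar ⊔ Fbar).Normal := by
    rw [hsup]; exact Subgroup.Normal.map (MonoidHom.normal_ker π) mk hmks
  refine ⟨hDn, hcomm', hcyc, hn, ?_⟩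
  have hpos : 0 < Nat.card π.range := Nat.card_pos
  have small : Nat.card π.range ≤ 2 → (Dbar ⊔ Fbar).index = 1 ∨ (Dbar ⊔ Fbar).index = 2 ∨
      ((Dbar ⊔ Fbar).index = 6 ∧ ¬ commutator (Cfsg.Out ↥(D.group F)) ≤ Dbar ⊔ Fbar) := fun h => by
    rw [hidx]; omega
  simp only [List.mem_cons, List.not_mem_nil, or_false] at hD
  rcases hD with rfl | rfl | rfl | rfl | rfl | rfl | rfl
  · exact small (permHom_range_card_le hc hcomm _ (two_root_sym_card (by simp)))
  · exact small (permHom_range_card_le hc hcomm _ (two_root_sym_card (by simp)))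
  · obtain ⟨h6, hT, hS⟩ := d4_range (F := F) hc hcomm (by simp)
    refine Or.inr (Or.inr ⟨hidx.trans h6, fun hle => ?_⟩)
    obtain ⟨θ, hθ⟩ := hT
    obtain ⟨η, hη⟩ := hS
    have hmem : mk (θ * η * θ⁻¹ * η⁻¹) ∈ Dbar ⊔ Fbar := by
      refine hle ?_
      rw [map_mul, map_mul, map_mul, map_inv, map_inv, ← commutatorElement_def, commutator_def]
      exact Subgroup.commutator_mem_commutator (Subgroup.mem_top _) (Subgroup.mem_top _)
    rw [hsup] at hmem
    obtain ⟨k, hk, hke⟩ := hmem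
    have h1 : π (θ * η * θ⁻¹ * η⁻¹) = 1 := by
      have h2 : k⁻¹ * (θ * η * θ⁻¹ * η⁻¹) ∈ mk.ker := by
        rw [MonoidHom.mem_ker, map_mul, map_inv, hke, inv_mul_cancel]
      have h3 := hkerle h2
      rw [MonoidHom.mem_ker, map_mul, map_inv, MonoidHom.mem_ker.1 hk, inv_one, one_mul] at h3
      exact h3
    rw [map_mul, map_mul, map_mul, map_inv, map_inv, hθ, hη] at h1
    exact absurd h1 (by decide +kernel)
  · exact small (permHom_range_card_le hc hcomm _ (two_root_sym_card (by simp)))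
  · exact small (e6_range (F := F) hc hcomm _).le
  · exact small (by
      have h := permHom_range_eq_bot (F := F) hc hcomm (by simp) e7_sym
      show Nat.card (permHom (F := F) hc hcomm _).range ≤ 2
      rw [h, Subgroup.card_bot]; omega)
  · exact small (by
      have h := permHom_range_eq_bot (F := F) hc hcomm (by simp) e8_sym
      show Nat.card (permHom (F := F) hc hcomm _).range ≤ 2
      rw [h, Subgroup.card_bot]; omega)

end CfsgLib.ChevAut
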