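import Cfsg.Agent.Lib.ChevAut.Sylow
import Cfsg.Agent.Lib.Chevalley.GraphField
import Cfsg.Agent.Lib.Chev.Bruhat

/-!
After an inner automorphism, an automorphism of a finite Chevalley group permutes the root groups
of the fundamental roots and of their negatives.
-/

set_option autoImplicit false
set_option linter.unusedSectionVars false

namespace CfsgLib.ChevAut

open Cfsg.Lie CfsgLib.Chev
open CfsgLib.ChevGraph (gX)
open scoped Matrix Pointwise

variable {D : ChevalleyDatum} {T : Tabs} {F : Type*} [Field F]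

/-- `θ` maps the part of the group in `K` into `L` -/
def SMap (θ : ↥(D.group F) ≃* ↥(D.group F)) (K L : Subgroup (GL D.Idx F)) : Prop :=
  ∀ x : ↥(D.group F), (x : GL D.Idx F) ∈ K → (θ x : GL D.Idx F) ∈ L

/-- `θ` stabilises `U` and the opposite group -/
structure Good (θ : ↥(D.group F) ≃* ↥(D.group F)) : Prop where
  pos : SMap θ (Up D F) (Up D F)
  neg : SMap θ (Um D F) (Um D F)
  pos_symm : SMap θ.symm (Up D F) (Up D F)
  neg_symm : SMap θ.symm (Um D F) (Um D F)

theorem Good.symm {θ : ↥(D.group F) ≃* ↥(D.group F)} (h : Good θ) : Good θ.symm :=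
  ⟨h.pos_symm, h.neg_symm, h.pos, h.neg⟩

theorem Good.trans {θ η : ↥(D.group F) ≃* ↥(D.group F)} (h : Good θ) (h' : Good η) :
    Good (θ.trans η) :=
  ⟨fun x hx => h'.pos _ (h.pos x hx), fun x hx => h'.neg _ (h.neg x hx),
    fun x hx => h.pos_symm _ (h'.pos_symm x hx), fun x hx => h.neg_symm _ (h'.neg_symm x hx)⟩

section
variable (hc : Checked D T)
include hc

theorem elX_inj {r : ℕ} (hr : r < D.nroots) {t u : F} (h : elX D F r t = elX D F r u) : t = u := by
  have h1 : elX D F r (t + -u) = 1 := by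
    rw [← elX_add hc F hr, h, elX_add hc F hr, add_neg_cancel, elX_zero hc F hr]
  linear_combination (elX_eq_one_iff hc hr _).1 h1

theorem negSimple_lt (i : Fin D.rank) : D.neg (D.simple i.val) < D.nroots / 2 := by
  have := neg_eq hc (simple_lt hc i.2); have := half_le_simple hc i.2; have := nroots_eq_two_mul hc
  have := simple_lt hc i.2; omega

theorem elX_simple_mem_up (i : Fin D.rank) (t : F) : elX D F (D.simple i.val) t ∈ Up D F :=
  elX_mem_uGen (simple_lt hc i.2) (P := fun r => D.nroots / 2 ≤ r) (half_le_simple hc i.2) t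

theorem elX_negSimple_mem_um (i : Fin D.rank) (t : F) : elX D F (D.neg (D.simple i.val)) t ∈ Um D F :=
  elX_mem_uGen (neg_lt hc (simple_lt hc i.2)) (P := fun r => r < D.nroots / 2) (negSimple_lt hc i) t

theorem eq_of_negSimple {i j : Fin D.rank} (h : D.neg (D.simple i.val) = D.neg (D.simple j.val)) : i = j := by
  refine Fin.ext (simple_inj hc i.2 j.2 ?_)
  have := congrArg D.neg h
  rwa [neg_neg_root hc (simple_lt hc i.2), neg_neg_root hc (simple_lt hc j.2)] at this

/-- a product of reflections sending the fundamental roots to their negatives -/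
theorem exists_longest_perm : ∃ (L : List (Fin D.rank)) (τ : Equiv.Perm (Fin D.rank)),
    (∀ r, r < D.nroots → D.nroots / 2 ≤ r → sigs D T L r < D.nroots / 2) ∧
      ∀ i : Fin D.rank, sigs D T L (D.simple i.val) = D.neg (D.simple (τ i).val) := by
  obtain ⟨L, hL⟩ := exists_longest hc
  have hsimple : ∀ i : Fin D.rank, ∃ j : Fin D.rank, sigs D T L (D.simple i.val) = D.neg (D.simple j.val) := by
    intro i
    have hp := simple_lt hc i.2
    have hs := sigs_lt hc L hp
    have hsneg := hL _ hp (half_le_simple hc i.2)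
    set k := D.neg (sigs D T L (D.simple i.val))
    have hk : k < D.nroots := neg_lt hc hs
    have hkp : D.nroots / 2 ≤ k := by
      have e : k = _ := neg_eq hc hs; have := nroots_eq_two_mul hc; omega
    have hkL : sigs D T L.reverse k = D.neg (D.simple i.val) := by
      have := sigs_reverse hc L hp
      rw [show k = D.neg (sigs D T L (D.simple i.val)) from rfl, sigs_neg hc L.reverse hs, this]
    -- the preimages of the fundamental roots are negative
    have hneg : ∀ j : Fin D.rank, keyLin D (refls D L.reverse (Pi.single j 1)) < 0 := by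
      intro j
      have hj := simple_lt hc j.2
      have hr := sigs_lt hc L.reverse hj
      rw [← rv_simple hc, ← rv_sigs hc L.reverse hj, key_neg_iff hc hr]
      by_contra hpos
      have h1 := hL _ hr (by omega)
      have h2 := sigs_reverse hc L.reverse hj
      rw [List.reverse_reverse] at h2
      rw [h2] at h1
      have := half_le_simple hc j.2; omega
    have hsupp : ∀ j : Fin D.rank, rv D T k j ≠ 0 → ∃ p, p < D.nroots ∧ D.nroots / 2 ≤ p ∧
        rv D T (D.neg p) = refls D L.reverse (Pi.single j 1) := by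
      intro j _
      have hj := simple_lt hc j.2
      refine ⟨D.neg (sigs D T L.reverse (D.simple j.val)), neg_lt hc (sigs_lt hc _ hj), ?_, ?_⟩
      · have h1 := (key_neg_iff hc (sigs_lt hc L.reverse hj)).1 (by
          rw [rv_sigs hc L.reverse hj, rv_simple hc]; exact hneg j)
        have := neg_eq hc (sigs_lt hc L.reverse hj); have := nroots_eq_two_mul hc; omega
      · rw [neg_neg_root hc (sigs_lt hc _ hj), rv_sigs hc L.reverse hj, rv_simple hc]
    -- heights
    let ht : (Fin D.rank → ℤ) →+ ℤ :=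
      AddMonoidHom.mk' (fun v => ∑ j, v j) fun a b => by simp [Finset.sum_add_distrib]
    have hrefl : refls D L.reverse (rv D T k) = ∑ j, rv D T k j • refls D L.reverse (Pi.single j 1) := by
      let φ : (Fin D.rank → ℤ) →+ (Fin D.rank → ℤ) :=
        AddMonoidHom.mk' (refls D L.reverse) fun a b => refls_add L.reverse a b
      show φ (rv D T k) = ∑ j, rv D T k j • φ (Pi.single j 1)
      conv_lhs => rw [← Finset.univ_sum_single (rv D T k), map_sum]
      refine Finset.sum_congr rfl fun j _ => ?_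
      rw [← map_zsmul, ← Pi.single_smul]; simp
    have hsum : (-1 : ℤ) = ∑ j, rv D T k j * ht (refls D L.reverse (Pi.single j 1)) := by
      have h1 : ht (refls D L.reverse (rv D T k)) = -1 := by
        rw [← rv_sigs hc L.reverse hk, hkL, rv_neg hc hp, rv_simple hc, map_neg]
        simp [ht]
      rw [← h1, hrefl, map_sum]
      simp only [map_zsmul, smul_eq_mul]
    have hge : ∀ j, rv D T k j * ht (refls D L.reverse (Pi.single j 1)) ≤ -(rv D T k j) := by
      intro j
      by_cases h0 : rv D T k j = 0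
      · simp [h0]
      obtain ⟨p, hp', hpp, he⟩ := hsupp j h0
      have h1 : 1 ≤ ht (rv D T p) := by
        obtain ⟨l, hl⟩ := Function.ne_iff.1 (rv_ne_zero hc hp')
        have h2 := rv_nonneg hc hp' hpp
        have h3 : rv D T p l ≤ ht (rv D T p) :=
          Finset.single_le_sum (f := fun j => rv D T p j) (fun j _ => h2 j) (Finset.mem_univ l)
        have := lt_of_le_of_ne (h2 l) (Ne.symm hl)
        omega
      have h2 := rv_nonneg hc hk hkp j
      rw [← he, rv_neg hc hp', map_neg]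
      nlinarith
    have hle : ∑ j, rv D T k j ≤ 1 := by
      have h2 := Finset.sum_le_sum (s := Finset.univ) fun j _ => hge j
      rw [← hsum, Finset.sum_neg_distrib] at h2
      omega
    obtain ⟨l, hl⟩ := Function.ne_iff.1 (rv_ne_zero hc hk)
    refine ⟨l, ?_⟩
    have hl1 : rv D T k = Pi.single l 1 := by
      funext j
      have hnn := rv_nonneg hc hk hkp
      have h1 := Finset.single_le_sum (f := fun j => rv D T k j) (fun j _ => hnn j) (Finset.mem_univ l)
      have hl' := lt_of_le_of_ne (hnn l) (Ne.symm hl)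
      by_cases hj : j = l
      · subst hj; rw [Pi.single_eq_same]
        have : rv D T k j ≤ 1 := le_trans h1 hle
        omega
      · rw [Pi.single_eq_of_ne hj]
        have h2 := Finset.sum_le_sum_of_subset_of_nonneg (Finset.subset_univ {j, l})
          (fun x _ _ => hnn x) (f := fun j => rv D T k j)
        rw [Finset.sum_pair hj] at h2
        have := hnn j
        omega
    have hkl : k = D.simple l.val := rv_inj hc hk (simple_lt hc l.2) (by rw [hl1, rv_simple hc])
    rw [← hkl, show k = D.neg (sigs D T L (D.simple i.val)) from rfl, neg_neg_root hc hs]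
  choose τ hτ using hsimple
  have hinj : Function.Injective τ := fun a b e => by
    refine Fin.ext (simple_inj hc a.2 b.2 (sigs_injOn hc L (simple_lt hc a.2) (simple_lt hc b.2) ?_))
    rw [hτ, hτ, e]
  exact ⟨L, Equiv.ofBijective τ (Finite.injective_iff_bijective.1 hinj), hL, hτ⟩

variable (hcomm : CommOne D T)
include hcomm

/-- the opposite group meets `B n_i B` in the root group of the negative fundamental root -/
theorem neg_inf_cell (i : Fin D.rank) {g : GL D.Idx F} (hg : g ∈ Um D F)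
    (hcell : ∃ x ∈ D.borelSubgroup F, ∃ y ∈ D.borelSubgroup F,
      g = x * elN D F (D.simple i.val) 1 * y) : ∃ c : F, g = elX D F (D.neg (D.simple i.val)) c := by
  obtain ⟨x, hx, y, hy, rfl⟩ := hcell
  set p := D.simple i.val
  have hp : p < D.nroots := simple_lt hc i.2
  set n := elN D F p (1 : F) with hn
  obtain ⟨u, hu, h, hh, rfl⟩ := (mem_borel hc).1 hy
  obtain ⟨a, ha, t, rfl⟩ := pos_split_simple hc hcomm i hu
  set b₁ := x * (n * a * n⁻¹) with hb₁
  have hb₁B : b₁ ∈ D.borelSubgroup F :=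
    mul_mem hx (pos_le_borel hc (uGen_mono (fun r _ h => h.1) (nOne_conj_comp hc i ha)))
  have e1 : x * n * (a * elX D F p t * h) = b₁ * (n * elX D F p t * n⁻¹) * ((n * h * n⁻¹) * n) := by
    rw [hb₁]; group
  rw [hn, nOne_conj_elX hc i hp, sig_simple hc, ← hn] at e1
  set w := (eta D T i p : F) * t
  have hh' : n * h * n⁻¹ ∈ D.diagonalSubgroup F := nOne_conj_diagonal hc i hh
  obtain ⟨d, hd⟩ := diagonal_conj_elX hc (inv_mem hh') (neg_lt hc hp)
  rw [inv_inv] at hd
  set b₂ := b₁ * (n * h * n⁻¹) with hb₂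
  have hb₂B : b₂ ∈ D.borelSubgroup F := mul_mem hb₁B (diagonal_le_borel hc hh')
  have e2 : x * n * (a * elX D F p t * h) = b₂ * elX D F (D.neg p) ((d : F) * w) * n := by
    rw [e1, ← hd, hb₂]; simp only [p]; group
  rw [e2] at hg ⊢
  set c := (d : F) * w
  by_cases hc0 : c = 0
  · -- `b n` is never in the opposite group
    exfalso
    rw [hc0, elX_zero hc F (neg_lt hc hp), mul_one] at hg
    obtain ⟨L, -, hL, -⟩ := exists_longest_perm hc
    have hv := mem_pos_of_flipped hc hL hg
    obtain ⟨u₁, hu₁, h₁, hh₁, hb⟩ := (mem_borel hc).1 hb₂B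
    have e3 : u₁ * (h₁ * nProd D F (i :: L)) * 1 =
        1 * (1 * nProd D F L) * ((nProd D F L)⁻¹ * (b₂ * n) * nProd D F L) := by
      rw [nProd_cons, hb]; simp only [n, p]; group
    have h4 := (Chev.bruhat_unique hc hh₁ (one_mem _) hu₁ (one_mem _) (one_mem _)
      (show (nProd D F L)⁻¹ * (b₂ * n) * nProd D F L ∈ uInv D T F L from
        uGen_mono (fun r hr hrp => ⟨hrp, hL r hr hrp⟩) hv) e3).1
    have hsr := sigs_reverse hc L.reverse hp
    rw [List.reverse_reverse] at hsr
    have h5 := h4 _ (sigs_lt hc L.reverse hp)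
    rw [sigs_cons, hsr, sig_simple hc] at h5
    exact neg_ne hc hp h5
  · -- move the last `n` into `B`
    have hnn : n * n ∈ D.diagonalSubgroup F := elN_simple_sq hc i
    have hdiv : elN D F p (-c⁻¹) * n⁻¹ ∈ D.diagonalSubgroup F :=
      elN_div_mem hc hp (by simp [hc0]) one_ne_zero
    -- n⁻¹ x_p n = (n n)⁻¹ (n x_p n⁻¹) (n n)
    have e4 : elX D F (D.neg p) c * n = elX D F p c⁻¹ * (elN D F p (-c⁻¹) * n⁻¹) *
        (n * elX D F p c⁻¹ * n⁻¹) * (n * n) := by
      rw [neg_elX_eq hc hp hc0]; group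
    rw [hn, nOne_conj_elX hc i hp, sig_simple hc, ← hn] at e4
    obtain ⟨d', hd'⟩ := diagonal_conj_elX hc (inv_mem hnn) (neg_lt hc hp)
    rw [inv_inv] at hd'
    set v := (d' : F) * ((eta D T i p : F) * c⁻¹)
    refine ⟨v, ?_⟩
    set b₃ := b₂ * (elX D F p c⁻¹ * (elN D F p (-c⁻¹) * n⁻¹) * (n * n)) with hb₃
    have hb₃B : b₃ ∈ D.borelSubgroup F :=
      mul_mem hb₂B (mul_mem (mul_mem (elX_mem_borel hc hp (half_le_simple hc i.2) _)
        (diagonal_le_borel hc hdiv)) (diagonal_le_borel hc hnn))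
    have e5 : b₂ * elX D F (D.neg p) c * n = b₃ * elX D F (D.neg p) v := by
      rw [mul_assoc, e4, hb₃, ← hd']; simp only [p]; group
    rw [e5] at hg ⊢
    have hvneg := elX_negSimple_mem_um hc i v
    have h6 := mul_mem hg (inv_mem hvneg)
    rw [mul_inv_cancel_right] at h6
    rw [borel_inf_neg hc hb₃B h6, one_mul]

omit hcomm in
theorem negSimple_mem_cell (i : Fin D.rank) {t : F} (ht : t ≠ 0) :
    elX D F (D.neg (D.simple i.val)) t ∈ DoubleCoset.doubleCoset (elN D F (D.simple i.val) 1)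
      (D.borelSubgroup F : Set (GL D.Idx F)) (D.borelSubgroup F) := by
  have hp := simple_lt hc i.2
  refine DoubleCoset.mem_doubleCoset.2 ⟨elX D F (D.simple i.val) t⁻¹ *
    (elN D F (D.simple i.val) (-t⁻¹) * (elN D F (D.simple i.val) 1)⁻¹),
    mul_mem (elX_mem_borel hc hp (half_le_simple hc i.2) _)
      (diagonal_le_borel hc (elN_div_mem hc hp (by simp [ht]) one_ne_zero)),
    elX D F (D.simple i.val) t⁻¹, elX_mem_borel hc hp (half_le_simple hc i.2) _, ?_⟩
  rw [neg_elX_eq hc hp ht]; group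

omit hcomm in
theorem elN_not_mem_borel (i : Fin D.rank) : elN D F (D.simple i.val) (1 : F) ∉ D.borelSubgroup F := by
  intro h
  have hp := simple_lt hc i.2
  have hH := borel_inf_monomial hc h (elN_mem_monomial hc hp)
  have e := sigs_eq_of_mem hc (F := F) (L := [i]) (M := []) (by simpa [nProd_cons] using hH) hp
  rw [show sigs D T [i] (D.simple i.val) = sig D T i (D.simple i.val) from rfl, sig_simple hc,
    show sigs D T [] (D.simple i.val) = D.simple i.val from rfl] at e
  exact neg_ne hc hp e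

/-- a good automorphism permutes the root groups of the negative fundamental roots -/
theorem negSimple_map {θ : ↥(D.group F) ≃* ↥(D.group F)} (hθ : Good θ) (i : Fin D.rank) :
    ∃ j : Fin D.rank, ∀ t : F, ∃ u : F,
      (θ (gX hc (neg_lt hc (simple_lt hc i.2)) t) : GL D.Idx F) = elX D F (D.neg (D.simple j.val)) u := by
  classical
  set B := D.borelSubgroup F
  have hB : ∀ {η : ↥(D.group F) ≃* ↥(D.group F)}, Good η → ∀ x : ↥(D.group F), (x : GL D.Idx F) ∈ B → (η x : GL D.Idx F) ∈ B := by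
    intro η hη x hx
    rw [mem_borel_iff_normalizes hc hcomm (η x).2]
    intro y hy
    let y' : ↥(D.group F) := ⟨y, up_le_group hc hy⟩
    have h1 := hη.pos _ (show ((x * η.symm y' * x⁻¹ : ↥(D.group F)) : GL D.Idx F) ∈ Up D F from
      borel_conj_pos hc hx (hη.pos_symm y' hy))
    rw [map_mul, map_mul, map_inv, η.apply_symm_apply] at h1
    exact h1
  obtain ⟨Pi', hPi⟩ := exists_minParabolic hc hcomm (F := F) i rfl
  have hmemP : ∀ g, g ∈ Pi' ↔ g ∈ (B : Set (GL D.Idx F)) ∪
      DoubleCoset.doubleCoset (elN D F (D.simple i.val) (1 : F)) (B : Set (GL D.Idx F)) B := fun g => by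
    rw [← hPi]; rfl
  obtain ⟨P, hPB, -, hPS⟩ := exists_bnPair hc hcomm (F := F)
  set M := (Pi'.subgroupOf (D.group F)).map θ.toMonoidHom with hM
  have hBM : P.B ≤ M := by
    intro x hx
    rw [hPB, Subgroup.mem_subgroupOf] at hx
    exact ⟨θ.symm x, (hmemP _).2 (Or.inl (hB hθ.symm x hx)), θ.apply_symm_apply x⟩
  let ni : ↥(D.group F) := ⟨elN D F (D.simple i.val) 1, elN_mem_group hc (simple_lt hc i.2) 1⟩
  have hni : θ ni ∈ M := ⟨ni, (hmemP _).2 (Or.inr (DoubleCoset.mem_doubleCoset.2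
    ⟨1, one_mem _, 1, one_mem _, by simp [ni]⟩)), rfl⟩
  obtain ⟨s, hsS, hsM⟩ : ∃ s ∈ P.S, s ∈ M := by
    by_contra hcon
    push Not at hcon
    have he : {s | s ∈ P.S ∧ s ∈ M} = ∅ := Set.eq_empty_of_forall_notMem fun s hs => hcon s hs.1 hs.2
    have h1 := BN.eq_parabolic P hBM
    rw [he] at h1
    have h2 : P.parabolic ∅ = P.B := by simp [Cfsg.BNPair.parabolic]
    rw [h2] at h1
    rw [h1, hPB, Subgroup.mem_subgroupOf] at hni
    have := hB hθ.symm _ hni
    rw [θ.symm_apply_apply] at this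
    exact elN_not_mem_borel hc i this
  rw [hPS] at hsS
  obtain ⟨j, hj, hsj⟩ := hsS
  refine ⟨⟨j, hj⟩, fun t => ?_⟩
  have hs : (s : GL D.Idx F) = elN D F (D.simple j) 1 := by
    ext1; rw [hsj, coe_elN hc (simple_lt hc hj)]
  -- `θ n_i` lies in the cell of `n_j`
  obtain ⟨z, hz, hzs⟩ := hsM
  obtain ⟨b, hb, b', hb', hze⟩ : ∃ b ∈ B, ∃ b' ∈ B, (z : GL D.Idx F) = b * ni * b' := by
    rcases (hmemP _).1 hz with h | h
    · exfalso
      refine elN_not_mem_borel hc (F := F) ⟨j, hj⟩ ?_
      have := hB hθ z h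
      rw [show θ z = s from hzs, hs] at this
      exact this
    · exact DoubleCoset.mem_doubleCoset.1 h
  by_cases ht : t = 0
  · refine ⟨0, ?_⟩
    subst ht
    have h0 : gX hc (neg_lt hc (simple_lt hc i.2)) (0 : F) = 1 :=
      Subtype.ext (elX_zero hc F (neg_lt hc (simple_lt hc i.2)))
    rw [h0, map_one, elX_zero hc F (neg_lt hc (simple_lt hc hj))]
    rfl
  refine neg_inf_cell hc hcomm ⟨j, hj⟩
    (hθ.neg (gX hc (neg_lt hc (simple_lt hc i.2)) t) (elX_negSimple_mem_um hc i t)) ?_
  obtain ⟨x, hx, y, hy, e⟩ := DoubleCoset.mem_doubleCoset.1 (negSimple_mem_cell hc i ht)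
  let X : ↥(D.group F) := ⟨x, borel_le_group hc hx⟩
  let Y : ↥(D.group F) := ⟨y, borel_le_group hc hy⟩
  let Bb : ↥(D.group F) := ⟨b, borel_le_group hc hb⟩
  let Bb' : ↥(D.group F) := ⟨b', borel_le_group hc hb'⟩
  have e' : gX hc (neg_lt hc (simple_lt hc i.2)) t = X * ni * Y := Subtype.ext e
  have hz' : z = Bb * ni * Bb' := Subtype.ext hze
  have hni' : θ ni = (θ Bb)⁻¹ * s * (θ Bb')⁻¹ := by
    rw [← hzs]
    show θ ni = (θ Bb)⁻¹ * θ z * (θ Bb')⁻¹
    rw [hz', map_mul, map_mul]; group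
  refine ⟨(θ X : GL D.Idx F) * ((θ Bb)⁻¹ : ↥(D.group F)), mul_mem (hB hθ X hx) (inv_mem (hB hθ Bb hb)),
    ((θ Bb')⁻¹ : ↥(D.group F)) * (θ Y : GL D.Idx F), mul_mem (inv_mem (hB hθ Bb' hb')) (hB hθ Y hy), ?_⟩
  rw [e', map_mul, map_mul, hni', ← hs]
  simp only [Subgroup.coe_mul, mul_assoc]

/-- a good automorphism permutes the root groups of the fundamental roots -/
theorem simple_map {θ : ↥(D.group F) ≃* ↥(D.group F)} (hθ : Good θ) (i : Fin D.rank) :
    ∃ j : Fin D.rank, ∀ t : F, ∃ u : F,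
      (θ (gX hc (simple_lt hc i.2) t) : GL D.Idx F) = elX D F (D.simple j.val) u := by
  obtain ⟨L, τ, hL, hτ⟩ := exists_longest_perm hc
  set n : ↥(D.group F) := ⟨nProd D F L, monomial_le_group hc (nProd_mem_monomial hc L)⟩
  let c : ↥(D.group F) ≃* ↥(D.group F) := MulAut.conj n
  have hswap : SMap c (Up D F) (Um D F) ∧ SMap c.symm (Um D F) (Up D F) :=
    ⟨fun x hx => conj_flipped_mem hc hL hx, fun x hx => mem_pos_of_flipped hc hL hx⟩
  have hnn : (nProd D F L) * (nProd D F L) ∈ D.borelSubgroup F ∧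
      ∀ x ∈ Um D F, nProd D F L * x * (nProd D F L)⁻¹ ∈ Up D F := by
    refine ⟨?_, fun x hx => ChevField.nProd_conj_uGen hc L (fun r hr hneg => ?_) hx⟩
    · rw [← nProd_append]
      refine diagonal_le_borel hc (nProd_mem_of_pos hc (L ++ L) fun i => ?_)
      rw [sigs_append, hτ, sigs_neg hc L (simple_lt hc (τ i).2), hτ, neg_neg_root hc (simple_lt hc (τ (τ i)).2)]
      exact half_le_simple hc (τ (τ i)).2
    · have hnr := neg_lt hc hr
      have h1 := hL _ hnr (by
        have := neg_eq hc hr; have := nroots_eq_two_mul hc; omega)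
      rw [sigs_neg hc L hr, neg_eq hc (sigs_lt hc L hr)] at h1
      have := nroots_eq_two_mul hc; have := sigs_lt hc L hr; omega
  have hcU : ∀ x : ↥(D.group F), (x : GL D.Idx F) ∈ Up D F → (c.symm x : GL D.Idx F) ∈ Um D F := by
    intro x hx
    obtain ⟨d, hd, e⟩ := nProd_inv hc (F := F) L
    have h2 : (nProd D F L)⁻¹ = (nProd D F L * nProd D F L)⁻¹ * nProd D F L := by group
    have hd' : (nProd D F L * nProd D F L) ∈ D.diagonalSubgroup F :=
      borel_inf_monomial hc hnn.1 (mul_mem (nProd_mem_monomial hc L) (nProd_mem_monomial hc L))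
    show (nProd D F L)⁻¹ * (x : GL D.Idx F) * nProd D F L ∈ Um D F
    rw [show (nProd D F L)⁻¹ * (x : GL D.Idx F) * nProd D F L = (nProd D F L * nProd D F L)⁻¹ *
      (nProd D F L * (x : GL D.Idx F) * (nProd D F L)⁻¹) * ((nProd D F L * nProd D F L)⁻¹)⁻¹ by group]
    exact diag_conj_mem hc _ (inv_mem hd') (conj_flipped_mem hc hL hx)
  have hη : Good ((c.symm.trans θ).trans c) := by
    refine ⟨fun x hx => ?_, fun x hx => ?_, fun x hx => ?_, fun x hx => ?_⟩
    · exact hnn.2 _ (hθ.neg _ (hcU x hx))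
    · exact hswap.1 _ (hθ.pos _ (hswap.2 x hx))
    · exact hnn.2 _ (hθ.neg_symm _ (hcU x hx))
    · exact hswap.1 _ (hθ.pos_symm _ (hswap.2 x hx))
  obtain ⟨j, hj⟩ := negSimple_map hc hcomm hη (τ i)
  refine ⟨τ.symm j, fun t => ?_⟩
  have hp := simple_lt hc i.2
  obtain ⟨k, -, hk⟩ := nProd_conj_elX hc (F := F) L hp
  have hck : c (gX hc hp t) = gX hc (neg_lt hc (simple_lt hc (τ i).2)) ((k : F) * t) :=
    Subtype.ext (by show nProd D F L * elX D F _ t * (nProd D F L)⁻¹ = _; rw [hk, hτ]; rfl)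
  obtain ⟨u, hu⟩ := hj ((k : F) * t)
  rw [← hck, MulEquiv.trans_apply, MulEquiv.trans_apply, MulEquiv.symm_apply_apply] at hu
  have hq := simple_lt hc (τ.symm j).2
  obtain ⟨l, -, hl⟩ := nProd_conj_elX hc (F := F) L hq
  refine ⟨(l : F)⁻¹ * u, ?_⟩
  have h5 := hl ((l : F)⁻¹ * u)
  rw [hτ, τ.apply_symm_apply, mul_inv_cancel_left₀ l.ne_zero, ← hu] at h5
  exact (mul_left_cancel (mul_right_cancel h5)).symm

omit hcomm in
theorem good_inner_comm_iff (i j : Fin D.rank) :
    Commute (elX D F (D.simple i.val) 1) (elX D F (D.neg (D.simple j.val)) (1 : F)) → i ≠ j := by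
  rintro h rfl
  have hp := simple_lt hc i.2
  set x := elX D F (D.simple i.val) (1 : F)
  have hy : Commute x (elX D F (D.neg (D.simple i.val)) (-1 : F)) := by
    rw [← elX_inv hc F (neg_lt hc hp)]; exact h.inv_right
  have hn : Commute (elN D F (D.simple i.val) (1 : F)) x := by
    rw [elN, inv_one]
    exact (((Commute.refl x).mul_right hy).mul_right (Commute.refl x)).symm
  have e := nOne_conj_elX hc i hp (1 : F)
  rw [sig_simple hc, hn.eq, mul_inv_cancel_right] at e
  exact neg_ne hc hp (elX_root_unique hc hp (neg_lt hc hp) one_ne_zero e).symm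

theorem commute_of_ne {i j : Fin D.rank} (hij : i ≠ j) (t u : F) :
    Commute (elX D F (D.simple i.val) t) (elX D F (D.neg (D.simple j.val)) u) := by
  have hp := simple_lt hc i.2
  have hq := simple_lt hc j.2
  have h1 : D.neg (D.simple j.val) ≠ D.simple i.val := fun e => by
    have := negSimple_lt hc j; have := half_le_simple hc i.2; omega
  have h2 : D.neg (D.simple j.val) ≠ D.neg (D.simple i.val) := fun e => hij (eq_of_negSimple hc e).symm
  have hw : wordGL D F (D.commWord F (D.simple i.val) (D.neg (D.simple j.val)) t u) ∈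
      uGen D F (fun _ => False) := by
    refine wordGL_mem hc hp (neg_lt hc hq) (fun v hv => ?_) _ _
    obtain ⟨hvn, a, b, ha, hb, e⟩ := hv
    rw [rv_neg hc hq, rv_simple hc, rv_simple hc] at e
    have hi : rv D T v i = (a : ℤ) := by simp [e, hij]
    have hj : rv D T v j = -(b : ℤ) := by simp [e, Ne.symm hij]
    rcases Nat.lt_or_ge v (D.nroots / 2) with hneg | hpos
    · have hv' := neg_lt hc hvn
      have := rv_nonneg hc hv' (by have := neg_eq hc hvn; have := nroots_eq_two_mul hc; omega) i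
      rw [rv_neg hc hvn, Pi.neg_apply, hi] at this
      omega
    · have := rv_nonneg hc hvn hpos j
      rw [hj] at this
      omega
  have hbot : uGen D F (fun _ => False) = ⊥ := by
    rw [eq_bot_iff, uGen_le_iff]
    exact fun _ _ h => h.elim
  rw [hbot, Subgroup.mem_bot] at hw
  have h := elX_comm hc hcomm hp (neg_lt hc hq) h1 h2 t u
  rw [hw, mul_one] at h
  exact h.symm

/-- the permutation of the fundamental roots, and the parameter maps, of a good automorphism -/
theorem exists_root_maps {θ : ↥(D.group F) ≃* ↥(D.group F)} (hθ : Good θ) :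
    ∃ (π : Equiv.Perm (Fin D.rank)) (φ ψ : Fin D.rank → (F →+ F)),
      (∀ i, Function.Bijective (φ i) ∧ Function.Bijective (ψ i)) ∧
      (∀ i t, (θ (gX hc (simple_lt hc i.2) t) : GL D.Idx F) = elX D F (D.simple (π i).val) (φ i t)) ∧
      ∀ i t, (θ (gX hc (neg_lt hc (simple_lt hc i.2)) t) : GL D.Idx F) =
        elX D F (D.neg (D.simple (π i).val)) (ψ i t) := by
  choose π u hu using fun i => negSimple_map hc hcomm hθ i
  choose ρ v hv using fun i => simple_map hc hcomm hθ i
  choose π' u' hu' using fun i => negSimple_map hc hcomm hθ.symm i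
  choose ρ' v' hv' using fun i => simple_map hc hcomm hθ.symm i
  have key : ∀ (η η' : ↥(D.group F) ≃* ↥(D.group F)), (∀ x, η' (η x) = x) → ∀ (σ σ' : Fin D.rank → Fin D.rank)
      (R : Fin D.rank → ℕ) (hR : ∀ i, R i < D.nroots) (w w' : Fin D.rank → F → F),
      (∀ i t, (η (gX hc (hR i) t) : GL D.Idx F) = elX D F (R (σ i)) (w i t)) →
      (∀ i t, (η' (gX hc (hR i) t) : GL D.Idx F) = elX D F (R (σ' i)) (w' i t)) →
      (∀ i j, R i = R j → i = j) →
      ∀ i, σ' (σ i) = i ∧ ∀ t, w' (σ i) (w i t) = t := by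
    intro η η' hηη' σ σ' R hR w w' hw hw' hinj i
    have h : ∀ t, elX D F (R i) t = elX D F (R (σ' (σ i))) (w' (σ i) (w i t)) := fun t => by
      have e : η (gX hc (hR i) t) = gX hc (hR (σ i)) (w i t) := Subtype.ext (hw i t)
      rw [← hw', ← e, hηη']
      rfl
    have e1 := hinj _ _ (elX_root_unique hc (hR i) (hR _) one_ne_zero (h 1))
    refine ⟨e1.symm, fun t => ?_⟩
    have := h t
    rw [← e1] at this
    exact (elX_inj hc (hR i) this).symm
  have k1 := key θ θ.symm θ.symm_apply_apply π π' _ (fun i => neg_lt hc (simple_lt hc i.2)) u u' hu hu'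
    fun i j e => eq_of_negSimple hc e
  have k2 := key θ.symm θ θ.apply_symm_apply π' π _ (fun i => neg_lt hc (simple_lt hc i.2)) u' u hu' hu
    fun i j e => eq_of_negSimple hc e
  have k3 := key θ θ.symm θ.symm_apply_apply ρ ρ' _ (fun i => simple_lt hc i.2) v v' hv hv'
    fun i j e => Fin.ext (simple_inj hc i.2 j.2 e)
  have k4 := key θ.symm θ θ.apply_symm_apply ρ' ρ _ (fun i => simple_lt hc i.2) v' v hv' hv
    fun i j e => Fin.ext (simple_inj hc i.2 j.2 e)
  let e : Equiv.Perm (Fin D.rank) := ⟨π, π', fun i => (k1 i).1, fun i => (k2 i).1⟩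
  have hρ : ∀ i, ρ i = π i := by
    intro i
    by_contra hne
    refine good_inner_comm_iff hc (F := F) i i ?_ rfl
    have h1 := commute_of_ne hc hcomm hne (v i 1) (u i 1)
    rw [← hv, ← hu] at h1
    have h2 : Commute (θ (gX hc (simple_lt hc i.2) (1 : F))) (θ (gX hc (neg_lt hc (simple_lt hc i.2)) 1)) :=
      Subtype.ext h1
    have h3 := h2.map θ.symm
    rw [θ.symm_apply_apply, θ.symm_apply_apply] at h3
    exact congrArg Subtype.val h3.eq
  have hadd : ∀ (R : Fin D.rank → ℕ) (hR : ∀ i, R i < D.nroots) (σ : Fin D.rank → Fin D.rank)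
      (w : Fin D.rank → F → F), (∀ i t, (θ (gX hc (hR i) t) : GL D.Idx F) = elX D F (R (σ i)) (w i t)) →
      ∀ i s t, w i (s + t) = w i s + w i t := by
    intro R hR σ w hw i s t
    refine elX_inj hc (hR (σ i)) ?_
    rw [← hw, ← elX_add hc F (hR (σ i)), ← hw, ← hw, ← Subgroup.coe_mul, ← map_mul]
    congr 2
    exact Subtype.ext (elX_add hc F (hR i) s t).symm
  refine ⟨e, fun i => AddMonoidHom.mk' (v i) (hadd _ (fun i => simple_lt hc i.2) ρ v hv i),
    fun i => AddMonoidHom.mk' (u i) (hadd _ (fun i => neg_lt hc (simple_lt hc i.2)) π u hu i),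
    fun i => ⟨⟨fun s t h => ?_, fun t => ⟨v' (ρ i) t, ?_⟩⟩, ⟨fun s t h => ?_, fun t => ⟨u' (π i) t, ?_⟩⟩⟩,
    fun i t => ?_, fun i t => hu i t⟩
  · rw [← (k3 i).2 s, ← (k3 i).2 t]; exact congrArg _ h
  · have := (k4 (ρ i)).2 t
    rwa [(k3 i).1] at this
  · rw [← (k1 i).2 s, ← (k1 i).2 t]; exact congrArg _ h
  · have := (k2 (π i)).2 t
    rwa [(k1 i).1] at this
  · show _ = elX D F (D.simple (π i).val) _
    rw [hv i t, hρ i]; rfl

/-- every automorphism becomes good after an inner one -/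
theorem exists_good [Finite F] (θ : ↥(D.group F) ≃* ↥(D.group F)) :
    ∃ x : ↥(D.group F), Good (θ.trans (MulAut.conj x)) := by
  classical
  obtain ⟨p, hchar⟩ := CharP.exists F
  haveI : Fact p.Prime := ⟨(CharP.char_is_prime_or_zero F p).resolve_right fun h => by
    subst h
    haveI := CharP.charP_to_charZero F
    exact not_finite F⟩
  obtain ⟨P, hP⟩ := sylow_pos hc hcomm (F := F) p
  haveI : Finite ↥(D.group F) := inferInstance
  obtain ⟨Q, hQ⟩ : ∃ Q : Sylow p ↥(D.group F), (Q : Subgroup ↥(D.group F)) = (P : Subgroup ↥(D.group F)).map θ.toMonoidHom := by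
    refine ⟨(P.isPGroup'.map θ.toMonoidHom).toSylow ?_, rfl⟩
    rw [show (P : Subgroup ↥(D.group F)).map θ.toMonoidHom = (P : Subgroup ↥(D.group F)).map (θ : ↥(D.group F) →* ↥(D.group F)) from rfl,
      Subgroup.index_map_equiv]
    exact P.not_dvd_index
  obtain ⟨g, hg⟩ := MulAction.exists_smul_eq ↥(D.group F) Q P
  -- after conjugation by `g` the group `U` is fixed
  have hU : ∀ x : ↥(D.group F), (g * θ x * g⁻¹ : ↥(D.group F)).val ∈ Up D F ↔ (x : GL D.Idx F) ∈ Up D F := by
    intro x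
    have h1 : (g * θ x * g⁻¹) ∈ (P : Subgroup ↥(D.group F)) ↔ θ x ∈ (Q : Subgroup ↥(D.group F)) := by
      rw [← hg, Sylow.coe_subgroup_smul, Subgroup.mem_pointwise_smul_iff_inv_smul_mem]
      simp [mul_assoc]
    rw [hQ, Subgroup.mem_map_equiv, θ.symm_apply_apply, hP, Subgroup.mem_subgroupOf,
      Subgroup.mem_subgroupOf] at h1
    exact h1
  obtain ⟨L, -, hL, -⟩ := exists_longest_perm hc
  let n : ↥(D.group F) := ⟨nProd D F L, monomial_le_group hc (nProd_mem_monomial hc L)⟩
  set m : ↥(D.group F) := g * θ n * g⁻¹ with hm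
  have hmx : ∀ z : ↥(D.group F), m * (g * θ z * g⁻¹) * m⁻¹ = g * θ (n * z * n⁻¹) * g⁻¹ := fun z => by
    rw [hm, map_mul, map_mul, map_inv]; group
  have htriv : ∀ y ∈ Up D F, (m : GL D.Idx F) * y * (m : GL D.Idx F)⁻¹ ∈ Up D F → y = 1 := by
    intro y hy hy'
    set z := θ.symm (g⁻¹ * ⟨y, up_le_group hc hy⟩ * g)
    have hzy : g * θ z * g⁻¹ = ⟨y, up_le_group hc hy⟩ := by
      rw [θ.apply_symm_apply]; group
    have hz : (z : GL D.Idx F) ∈ Up D F := (hU z).1 (by rw [hzy]; exact hy)
    have h1 : (n * z * n⁻¹ : ↥(D.group F)).val ∈ Up D F := (hU _).1 (by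
      rw [← hmx, hzy]; exact hy')
    have h2 := pos_inf_neg hc h1 (conj_flipped_mem hc hL hz)
    have h3 : n * z * n⁻¹ = 1 := Subtype.ext h2
    rw [conj_eq_one_iff] at h3
    rw [h3, map_one, mul_one, mul_inv_cancel] at hzy
    exact (congrArg Subtype.val hzy).symm
  obtain ⟨b, hb, hbm, hbs⟩ := exists_conj_opposite hc hcomm m.2 htriv
  let b' : ↥(D.group F) := ⟨b, up_le_group hc hb⟩
  refine ⟨b'⁻¹ * g, ?_⟩
  have happ : ∀ x : ↥(D.group F), (θ.trans (MulAut.conj (b'⁻¹ * g))) x = b'⁻¹ * (g * θ x * g⁻¹) * b' := fun x => by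
    rw [MulEquiv.trans_apply, MulAut.conj_apply]; group
  have hpos : ∀ x : ↥(D.group F), (((θ.trans (MulAut.conj (b'⁻¹ * g))) x : ↥(D.group F)) : GL D.Idx F) ∈ Up D F ↔
      (x : GL D.Idx F) ∈ Up D F := by
    intro x
    rw [happ, ← hU x]
    constructor
    · intro h
      have := mul_mem (mul_mem hb h) (inv_mem hb)
      simpa [b', mul_assoc] using this
    · intro h
      exact mul_mem (mul_mem (inv_mem hb) h) hb
  refine ⟨fun x hx => (hpos x).2 hx, fun x hx => ?_, fun x hx => (hpos _).1 (by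
    rw [MulEquiv.apply_symm_apply]; exact hx), fun x hx => ?_⟩
  · set z := n⁻¹ * x * n
    have hz : (z : GL D.Idx F) ∈ Up D F := mem_pos_of_flipped hc hL hx
    rw [happ, show x = n * z * n⁻¹ by simp [z]; group, ← hmx]
    exact hbm _ ((hU z).2 hz)
  · obtain ⟨y, hy, hye⟩ := hbs x hx
    set z := θ.symm (g⁻¹ * ⟨y, up_le_group hc hy⟩ * g)
    have hzy : g * θ z * g⁻¹ = ⟨y, up_le_group hc hy⟩ := by
      rw [θ.apply_symm_apply]; group
    have hz : (z : GL D.Idx F) ∈ Up D F := (hU z).1 (by rw [hzy]; exact hy)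
    have h1 : (θ.trans (MulAut.conj (b'⁻¹ * g))).symm x = n * z * n⁻¹ := by
      rw [MulEquiv.symm_apply_eq, happ, ← hmx, hzy]
      exact Subtype.ext hye.symm
    rw [h1]
    exact conj_flipped_mem hc hL hz

end

end CfsgLib.ChevAut
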