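import Cfsg.Agent.Lib.ChevAut.RootMap
import Mathlib.FieldTheory.Finite.Basic

/-!
The parameter maps of a good automorphism are multiples of field automorphisms, linked by the
Cartan integers.
-/

set_option autoImplicit false
set_option linter.unusedSectionVars false

namespace CfsgLib.ChevAut

open Cfsg.Lie CfsgLib.Chev
open CfsgLib.ChevGraph (gX)
open scoped Matrix

variable {D : ChevalleyDatum} {T : Tabs} {F : Type*} [Field F]

/-- `θ` acts on the root elements of the fundamental roots and their negatives through a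
permutation, scalars and field automorphisms -/
structure Shape (hc : Checked D T) (θ : ↥(D.group F) ≃* ↥(D.group F)) (π : Equiv.Perm (Fin D.rank))
    (a : Fin D.rank → Fˣ) (f : Fin D.rank → (F ≃+* F)) : Prop where
  pos : ∀ i t, θ (gX hc (simple_lt hc i.2) t) = gX hc (simple_lt hc (π i).2) ((a i : F) * f i t)
  neg : ∀ i t, θ (gX hc (neg_lt hc (simple_lt hc i.2)) t) =
    gX hc (neg_lt hc (simple_lt hc (π i).2)) (((a i)⁻¹ : Fˣ) * f i t)

section
variable (hc : Checked D T)
include hc

theorem torus_conj_simple (i j : Fin D.rank) (t : Fˣ) (u : F) :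
    torus D T F (corChar D T (D.simple i.val) t) * elX D F (D.simple j.val) u *
      (torus D T F (corChar D T (D.simple i.val) t))⁻¹ =
    elX D F (D.simple j.val) ((t : F) ^ cm D i j * u) := by
  rw [torus_conj_elX hc _ (simple_lt hc j.2), chi_corChar_simple hc i (simple_lt hc j.2),
    Units.val_zpow_eq_zpow_val]
  rfl

theorem elN_conj_simple (i : Fin D.rank) {t s : F} (ht : t ≠ 0) (hs : s ≠ 0) :
    ∃ w : F, w ≠ 0 ∧ elN D F (D.simple i.val) t * elX D F (D.simple i.val) s *
      (elN D F (D.simple i.val) t)⁻¹ = elX D F (D.neg (D.simple i.val)) w := by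
  have hp := simple_lt hc i.2
  obtain ⟨T', hT'⟩ : ∃ u : Fˣ, (u : F) = t := ⟨Units.mk0 t ht, rfl⟩
  subst hT'
  set χ := corChar D T (D.simple i.val) T'
  refine ⟨(chi χ (rv D T (D.neg (D.simple i.val))) : F) * ((eta D T i (D.simple i.val) : F) * s), ?_, ?_⟩
  · refine mul_ne_zero (Units.ne_zero _) (mul_ne_zero ?_ hs)
    rcases eta_cast hc (F := F) i hp with e | e <;> simp [e]
  · rw [elN_eq_mul hc hp, ← torus_conj_elX hc χ (neg_lt hc hp), ← sig_simple hc i, ← nOne_conj_elX hc i hp]
    simp only [χ]; group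

theorem sig_simple_eq_iff (i j : Fin D.rank) :
    sig D T i (D.simple j.val) = D.simple j.val ↔ cm D i j = 0 := by
  have hq := simple_lt hc j.2
  have e : rv D T (sig D T i (D.simple j.val)) = rv D T (D.simple j.val) - Pi.single i (cm D i j) := by
    rw [rv_sig hc i hq, rv_simple hc]
    unfold Chev.refl
    congr 2
    rw [Finset.sum_eq_single j (fun k _ hk => by rw [Pi.single_eq_of_ne hk, mul_zero]) (by simp),
      Pi.single_eq_same, mul_one]
  constructor
  · intro h
    rw [h] at e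
    have := congrFun e i
    rw [Pi.sub_apply, Pi.single_eq_same] at this
    omega
  · intro h
    exact rv_inj hc (sig_lt hc i hq) hq (by rw [e, h, Pi.single_zero, sub_zero])

variable (hcomm : CommOne D T)
include hcomm

/-- a conjugate of `x_{-p}` under `X_p` is not in `X_{-p}` -/
theorem opp_conj_eq_zero (i : Fin D.rank) {d w w' : F} (hw : w ≠ 0)
    (h : elX D F (D.simple i.val) d * elX D F (D.neg (D.simple i.val)) w * elX D F (D.simple i.val) (-d) =
      elX D F (D.neg (D.simple i.val)) w') : d = 0 := by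
  have hp := simple_lt hc i.2
  have hq := neg_lt hc hp
  have hw' : w' ≠ 0 := by
    rintro rfl
    rw [elX_zero hc F hq, ← elX_inv hc F hp, conj_eq_one_iff, elX_eq_one_iff hc hq] at h
    exact hw h
  set u : Fˣ := Units.mk0 (-w⁻¹) (by simp [hw])
  set u' : Fˣ := Units.mk0 (-w'⁻¹) (by simp [hw'])
  have hnl : elN D F (D.simple i.val) 1 = nProd D F [i] := by rw [nProd_cons, nProd_nil, mul_one]
  rw [neg_elX_eq hc hp hw, neg_elX_eq hc hp hw', show (-w⁻¹ : F) = (u : F) from rfl,
    show (-w'⁻¹ : F) = (u' : F) from rfl, elN_eq_mul hc hp u, elN_eq_mul hc hp u', hnl] at h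
  have e : elX D F (D.simple i.val) (d + w⁻¹) * (torus D T F (corChar D T (D.simple i.val) u) * nProd D F [i]) *
      elX D F (D.simple i.val) (w⁻¹ + -d) = elX D F (D.simple i.val) w'⁻¹ *
      (torus D T F (corChar D T (D.simple i.val) u') * nProd D F [i]) * elX D F (D.simple i.val) w'⁻¹ := by
    rw [← h, ← elX_add hc F hp, ← elX_add hc F hp]; group
  have hinv : ∀ x : F, elX D F (D.simple i.val) x ∈ uInv D T F [i] := fun x =>
    elX_mem_uGen hp (P := InvRoot D T [i]) ⟨half_le_simple hc i.2, by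
      rw [show sigs D T [i] (D.simple i.val) = sig D T i (D.simple i.val) from rfl, sig_simple hc]
      exact negSimple_lt hc i⟩ x
  obtain ⟨-, h1, h2, h3⟩ := Chev.bruhat_unique hc (torus_corChar_mem hc u) (torus_corChar_mem hc u')
    (elX_simple_mem_up hc i _) (elX_simple_mem_up hc i _) (hinv _) (hinv _) e
  have h1' := elX_inj hc hp h1
  have h2' := elX_inj hc hp h2
  have h4 := congrFun (torus_injective hc (mul_right_cancel h3)) i
  have h5 : u ^ (2 : ℤ) = u' ^ (2 : ℤ) := by
    have := congrArg (fun c => chi c (rv D T (D.simple i.val)))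
      (torus_injective hc (mul_right_cancel h3))
    simp only [chi_corChar_simple hc i hp] at this
    rwa [show D.cartan i (D.simple i.val) = 2 from cm_self hc i] at this
  have h6 : w⁻¹ ^ 2 = w'⁻¹ ^ 2 := by
    have := congrArg Units.val h5
    simpa [u, u', Units.val_zpow_eq_zpow_val] using this
  have h2d : 2 * d = 0 := by linear_combination h1' - h2'
  rcases mul_eq_zero.1 h2d with h2 | hd
  · have : (w⁻¹ - w'⁻¹) ^ 2 = 0 := by linear_combination h6 + (w'⁻¹ ^ 2 - w⁻¹ * w'⁻¹) * h2
    have h7 := pow_eq_zero_iff (two_ne_zero) |>.1 this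
    linear_combination h1' - h7
  · exact hd

variable {θ : ↥(D.group F) ≃* ↥(D.group F)} {π : Equiv.Perm (Fin D.rank)}
  {φ ψ : Fin D.rank → (F →+ F)}

/-- the negative parameters are determined by the positive ones -/
theorem param_neg (hφb : ∀ i, Function.Bijective (φ i)) (hψb : ∀ i, Function.Bijective (ψ i))
    (hφ : ∀ i t, (θ (gX hc (simple_lt hc i.2) t) : GL D.Idx F) = elX D F (D.simple (π i).val) (φ i t))
    (hψ : ∀ i t, (θ (gX hc (neg_lt hc (simple_lt hc i.2)) t) : GL D.Idx F) =
      elX D F (D.neg (D.simple (π i).val)) (ψ i t))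
    (i : Fin D.rank) {t : F} (ht : t ≠ 0) :
    ψ i (-t⁻¹) = -(φ i t)⁻¹ ∧
      (θ ⟨elN D F (D.simple i.val) t, elN_mem_group hc (simple_lt hc i.2) t⟩ : GL D.Idx F) =
        elN D F (D.simple (π i).val) (φ i t) := by
  have hp := simple_lt hc i.2
  have hp' := simple_lt hc (π i).2
  set g : ↥(D.group F) := ⟨elN D F (D.simple i.val) t, elN_mem_group hc hp t⟩
  have hg : (θ g : GL D.Idx F) = elX D F (D.simple (π i).val) (φ i t) *
      elX D F (D.neg (D.simple (π i).val)) (ψ i (-t⁻¹)) * elX D F (D.simple (π i).val) (φ i t) := by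
    rw [show g = gX hc hp t * gX hc (neg_lt hc hp) (-t⁻¹) * gX hc hp t from Subtype.ext rfl, map_mul, map_mul,
      Subgroup.coe_mul, Subgroup.coe_mul, hφ, hψ]
  set a := φ i t
  set c := ψ i (-t⁻¹) with hcdef
  have hc0 : c ≠ 0 := fun h => by
    have := (hψb i).1 (h.trans (map_zero (ψ i)).symm)
    exact ht (by simpa using this)
  have hgd : (θ g : GL D.Idx F) = elX D F (D.simple (π i).val) (a + c⁻¹) * elN D F (D.simple (π i).val) (-c⁻¹) *
      elX D F (D.simple (π i).val) (a + c⁻¹) := by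
    rw [hg, neg_elX_eq hc hp' hc0, show ∀ A B N : GL D.Idx F, A * (B * N * B) * A = A * B * N * (B * A) from
      fun A B N => by group, elX_add hc F hp', elX_add hc F hp', add_comm c⁻¹]
  obtain ⟨w₀, hw₀, he₀⟩ := elN_conj_simple hc i ht (one_ne_zero (α := F))
  have himg := congrArg (fun z : ↥(D.group F) => (θ z : GL D.Idx F))
    (show g * gX hc hp 1 * g⁻¹ = gX hc (neg_lt hc hp) w₀ from Subtype.ext he₀)
  simp only [map_mul, map_inv, Subgroup.coe_mul, Subgroup.coe_inv, hφ, hψ] at himg
  obtain ⟨w₁, hw₁, he₁⟩ := elN_conj_simple hc (π i) (t := -c⁻¹) (by simp [hc0])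
    (s := φ i 1) (fun h => one_ne_zero ((hφb i).1 (h.trans (map_zero (φ i)).symm)))
  have hd : a + c⁻¹ = 0 := by
    refine opp_conj_eq_zero hc hcomm (π i) hw₁ (w' := ψ i w₀) ?_
    rw [← himg, ← he₁, hgd, ← elX_inv hc F hp']
    set X := elX D F (D.simple (π i).val) (a + c⁻¹)
    set Y := elX D F (D.simple (π i).val) (φ i 1)
    have hXY : X * Y * X⁻¹ = Y := by
      rw [elX_add hc F hp', elX_inv hc F hp', elX_add hc F hp']
      congr 1; ring
    calc _ = X * elN D F (D.simple (π i).val) (-c⁻¹) * (X * Y * X⁻¹) *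
          (elN D F (D.simple (π i).val) (-c⁻¹))⁻¹ * X⁻¹ := by rw [hXY]; group
      _ = _ := by group
  have hca : c = -a⁻¹ := by
    have : a = -c⁻¹ := by linear_combination hd
    rw [this, inv_neg, inv_inv, neg_neg]
  refine ⟨hca, ?_⟩
  rw [hg, hca]
  rfl

/-- the torus elements of the fundamental roots -/
theorem param_torus (hφb : ∀ i, Function.Bijective (φ i)) (hψb : ∀ i, Function.Bijective (ψ i))
    (hφ : ∀ i t, (θ (gX hc (simple_lt hc i.2) t) : GL D.Idx F) = elX D F (D.simple (π i).val) (φ i t))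
    (hψ : ∀ i t, (θ (gX hc (neg_lt hc (simple_lt hc i.2)) t) : GL D.Idx F) =
      elX D F (D.neg (D.simple (π i).val)) (ψ i t))
    (i j : Fin D.rank) {t : F} (ht : t ≠ 0) (u : F) :
    φ j (t ^ cm D i j * u) = (φ i t / φ i 1) ^ cm D (π i) (π j) * φ j u := by
  have hp := simple_lt hc i.2
  have hp' := simple_lt hc (π i).2
  have h0 : ∀ {s : F}, s ≠ 0 → φ i s ≠ 0 := fun hs h => hs ((hφb i).1 (h.trans (map_zero (φ i)).symm))
  set A : Fˣ := Units.mk0 t ht
  set P : Fˣ := Units.mk0 (φ i t) (h0 ht)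
  set Q : Fˣ := Units.mk0 (φ i 1) (h0 one_ne_zero)
  set N : F → ↥(D.group F) := fun s => ⟨elN D F (D.simple i.val) s, elN_mem_group hc hp s⟩
  have hL : ((N t * (N 1)⁻¹ * gX hc (simple_lt hc j.2) u * (N t * (N 1)⁻¹)⁻¹ : ↥(D.group F)) : GL D.Idx F) =
      (gX hc (simple_lt hc j.2) (t ^ cm D i j * u) : ↥(D.group F)) := by
    have e : elN D F (D.simple i.val) t * (elN D F (D.simple i.val) 1)⁻¹ =
        torus D T F (corChar D T (D.simple i.val) A) := by
      have := elN_mul_inv hc hp A 1
      rwa [div_one, Units.val_one] at this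
    show elN D F (D.simple i.val) t * (elN D F (D.simple i.val) 1)⁻¹ * elX D F _ u *
      (elN D F (D.simple i.val) t * (elN D F (D.simple i.val) 1)⁻¹)⁻¹ = elX D F _ _
    rw [e, torus_conj_simple hc]
    rfl
  have h := congrArg (fun z : ↥(D.group F) => (θ z : GL D.Idx F)) (Subtype.ext hL)
  simp only [map_mul, map_inv, Subgroup.coe_mul, Subgroup.coe_inv, hφ, N,
    (param_neg hc hcomm hφb hψb hφ hψ i ht).2, (param_neg hc hcomm hφb hψb hφ hψ i (one_ne_zero (α := F))).2] at h
  rw [show φ i t = (P : F) from rfl, show φ i 1 = (Q : F) from rfl, elN_mul_inv hc hp' P Q,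
    torus_conj_simple hc] at h
  rw [← elX_inj hc (simple_lt hc (π j).2) h, Units.val_div_eq_div_val]
  rfl

theorem cm_zero_of_good (hφb : ∀ i, Function.Bijective (φ i)) (hψb : ∀ i, Function.Bijective (ψ i))
    (hφ : ∀ i t, (θ (gX hc (simple_lt hc i.2) t) : GL D.Idx F) = elX D F (D.simple (π i).val) (φ i t))
    (hψ : ∀ i t, (θ (gX hc (neg_lt hc (simple_lt hc i.2)) t) : GL D.Idx F) =
      elX D F (D.neg (D.simple (π i).val)) (ψ i t))
    {i j : Fin D.rank} (h : cm D i j = 0) : cm D (π i) (π j) = 0 := by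
  have hp := simple_lt hc i.2
  have hq := simple_lt hc j.2
  have hp' := simple_lt hc (π i).2
  have hq' := simple_lt hc (π j).2
  have e := nOne_conj_elX hc i hq (1 : F)
  rw [(sig_simple_eq_iff hc i j).2 h] at e
  have h1 := congrArg (fun z : ↥(D.group F) => (θ z : GL D.Idx F))
    (show (⟨_, elN_mem_group hc hp 1⟩ : ↥(D.group F)) * gX hc hq 1 * (⟨_, elN_mem_group hc hp 1⟩ : ↥(D.group F))⁻¹ =
      gX hc hq ((eta D T i (D.simple j.val) : F) * 1) from Subtype.ext e)
  simp only [map_mul, map_inv, Subgroup.coe_mul, Subgroup.coe_inv, hφ,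
    (param_neg hc hcomm hφb hψb hφ hψ i (one_ne_zero (α := F))).2] at h1
  have h0 : ∀ k, φ k 1 ≠ 0 := fun k hk => one_ne_zero ((hφb k).1 (hk.trans (map_zero (φ k)).symm))
  set P : Fˣ := Units.mk0 (φ i 1) (h0 i)
  rw [show φ i 1 = (P : F) from rfl, elN_eq_mul hc hp' P] at h1
  set χ := corChar D T (D.simple (π i).val) P
  rw [show torus D T F χ * elN D F (D.simple (π i).val) 1 * elX D F (D.simple (π j).val) (φ j 1) *
      (torus D T F χ * elN D F (D.simple (π i).val) 1)⁻¹ = torus D T F χ *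
      (elN D F (D.simple (π i).val) 1 * elX D F (D.simple (π j).val) (φ j 1) *
        (elN D F (D.simple (π i).val) 1)⁻¹) * (torus D T F χ)⁻¹ by group,
    nOne_conj_elX hc (π i) hq', torus_conj_elX hc _ (sig_lt hc _ hq')] at h1
  refine (sig_simple_eq_iff hc (π i) (π j)).1 (elX_root_unique hc (sig_lt hc _ hq') hq' ?_ h1)
  refine mul_ne_zero (Units.ne_zero _) (mul_ne_zero ?_ (h0 j))
  rcases eta_cast hc (F := F) (π i) hq' with e | e <;> simp [e]

/-- the shape of a good automorphism -/
theorem exists_shape [Finite F] (hθ : Good θ) :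
    ∃ (π : Equiv.Perm (Fin D.rank)) (a : Fin D.rank → Fˣ) (f : Fin D.rank → (F ≃+* F)),
      Shape hc θ π a f ∧ (∀ i j, cm D i j = 0 ↔ cm D (π i) (π j) = 0) ∧
      ∀ i j (t : F), t ≠ 0 → f j t ^ cm D i j = f i t ^ cm D (π i) (π j) := by
  obtain ⟨π, φ, ψ, hb, hφ, hψ⟩ := exists_root_maps hc hcomm hθ
  obtain ⟨π', φ', ψ', hb', hφ', hψ'⟩ := exists_root_maps hc hcomm hθ.symm
  have hφb := fun i => (hb i).1
  have hψb := fun i => (hb i).2
  have h1 : ∀ i, φ i 1 ≠ 0 := fun k hk => one_ne_zero ((hφb k).1 (hk.trans (map_zero (φ k)).symm))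
  -- the inverse permutation
  have hπ' : ∀ i, π' (π i) = i := by
    intro i
    have e : θ (gX hc (simple_lt hc i.2) 1) = gX hc (simple_lt hc (π i).2) (φ i 1) := Subtype.ext (hφ i 1)
    have e' := congrArg (fun z => (θ.symm z : GL D.Idx F)) e
    simp only [θ.symm_apply_apply, hφ'] at e'
    exact (Fin.ext (simple_inj hc i.2 (π' (π i)).2
      (elX_root_unique hc (simple_lt hc i.2) (simple_lt hc (π' (π i)).2) one_ne_zero e'))).symm
  -- the normalised maps
  let g : Fin D.rank → F → F := fun i t => φ i t / φ i 1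
  have gone : ∀ i, g i 1 = 1 := fun i => div_self (h1 i)
  have gadd : ∀ i s t, g i (s + t) = g i s + g i t := fun i s t => by simp only [g, map_add, add_div]
  have gsq : ∀ i t u, g i (t ^ 2 * u) = g i t ^ 2 * g i u := by
    intro i t u
    by_cases ht : t = 0
    · simp [g, ht]
    have := param_torus hc hcomm hφb hψb hφ hψ i i ht u
    rw [cm_self hc, cm_self hc, zpow_ofNat, zpow_ofNat] at this
    simp only [g, this, mul_div_assoc]
  have gsq' : ∀ i t, g i (t ^ 2) = g i t ^ 2 := fun i t => by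
    have := gsq i t 1
    rwa [mul_one, gone, mul_one] at this
  have gmul : ∀ i s t, g i (s * t) = g i s * g i t := by
    intro i s t
    by_cases h2 : (2 : F) = 0
    · have : Fintype F := Fintype.ofFinite F
      have : CharP F 2 := CharTwo.of_one_ne_zero_of_two_eq_zero one_ne_zero h2
      obtain ⟨r, rfl⟩ := FiniteField.isSquare_of_char_two (ringChar.eq F 2) s
      rw [← sq, gsq, gsq']
    · have e := gsq' i (s + t)
      rw [add_sq, gadd, gadd, gsq', gsq', mul_assoc, two_mul, gadd, gadd] at e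
      have : (2 : F) * (g i (s * t) - g i s * g i t) = 0 := by linear_combination e
      exact sub_eq_zero.1 ((mul_eq_zero.1 this).resolve_left h2)
  let fh : Fin D.rank → (F →+* F) := fun i =>
    { toFun := g i, map_one' := gone i, map_mul' := gmul i,
      map_zero' := by simp [g], map_add' := gadd i }
  let f : Fin D.rank → (F ≃+* F) := fun i =>
    RingEquiv.ofBijective (fh i) ⟨(fh i).injective, Finite.injective_iff_surjective.1 (fh i).injective⟩
  have hf : ∀ i t, f i t = φ i t / φ i 1 := fun _ _ => rfl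
  have hφf : ∀ i t, φ i t = φ i 1 * f i t := fun i t => by rw [hf, mul_div_cancel₀ _ (h1 i)]
  refine ⟨π, fun i => Units.mk0 (φ i 1) (h1 i), f, ⟨fun i t => ?_, fun i t => ?_⟩, fun i j => ⟨?_, ?_⟩, ?_⟩
  · refine Subtype.ext ?_
    rw [hφ, hφf]; rfl
  · refine Subtype.ext ?_
    rw [hψ]
    congr 1
    by_cases ht : t = 0
    · simp [ht]
    have h2 := (param_neg hc hcomm hφb hψb hφ hψ i (t := -t⁻¹) (by simp [ht])).1
    rw [inv_neg, inv_inv, neg_neg, hφf] at h2
    rw [h2, map_neg, map_inv₀, Units.val_inv_eq_inv_val, Units.val_mk0, mul_neg, inv_neg, neg_neg, mul_inv,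
      inv_inv]
  · exact cm_zero_of_good hc hcomm hφb hψb hφ hψ
  · intro h
    have := cm_zero_of_good hc hcomm (fun k => (hb' k).1) (fun k => (hb' k).2) hφ' hψ' h
    rwa [hπ', hπ'] at this
  · intro i j t ht
    have h2 := param_torus hc hcomm hφb hψb hφ hψ i j ht 1
    rw [mul_one] at h2
    rw [← map_zpow₀ (f j), hf, h2, mul_div_assoc, div_self (h1 j), mul_one, hf]

end

end CfsgLib.ChevAut
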